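import Groth.Agent.AbTI73.Trace
import Groth.Agent.Crv77.Twist
import Groth.Agent.Crv77.HH
import Groth.Agent.ValVan29.PushTwist
import Groth.Agent.Coh69.AffinePush
import Groth.Agent.EGA73.Tensor
import Groth.Agent.ValVan29.Vanish
import Groth.Agent.Amp73.GlobGen

/-!
Cohomology of a module injects into the cohomology of its inverse image along a finite flat morphism of invertible degree.
-/

set_option autoImplicit false
set_option backward.isDefEq.respectTransparency.types false
set_option linter.style.haveILetI false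

universe u

open CategoryTheory CategoryTheory.Limits AlgebraicGeometry Opposite TopologicalSpace

noncomputable section

namespace Groth.Agent.AbTI73

variable {X Y : Scheme.{u}} (π : X ⟶ Y)

theorem subsingleton_hh_of_pullback [IsFinite π] [Flat π] [LocallyOfFinitePresentation π] (N : ℕ)
    (hN : ∀ y : Y, π.finrank y = N) (hu : IsUnit (N : Γ(Y, ⊤))) {L : Y.Modules} (hL : PicF.IsInvertible L)
    (j : ℕ) (h : Subsingleton (Coh.HH X ((Scheme.Modules.pullback π).obj L) j)) :
    Subsingleton (Coh.HH Y L j) := by
  letI : Y.Over (Spec (CommRingCat.of Γ(Y, ⊤))) := ⟨Y.toSpecΓ⟩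
  obtain ⟨u, r, hur⟩ := exists_trace π N hN hu
  have hE := EGA73.isInvertible_tensorMod (EGA73.isInvertible_structureModule (X := X))
    (PicLoc.isInvertible_pullback π hL)
  haveI := (Amp73.isCoh_of_isInvertible hE).1
  obtain ⟨e⟩ := Coh69.nonempty_hh_push π (CohB1.tensorMod (Coh.structureModule X) ((Scheme.Modules.pullback π).obj L)) j
  have h1 := ValVan29.subsingleton_hh_of_iso (EGA73.tensUnitLeft ((Scheme.Modules.pullback π).obj L)).symm j h
  have h2 := ValVan29.subsingleton_hh_of_iso (ValVan29.projIso π (Coh.structureModule X) L hL).symm j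
    e.symm.toEquiv.subsingleton
  refine ValVan29.subsingleton_hh_of_iso (EGA73.tensUnitLeft L) j ⟨fun a b => ?_⟩
  have key : ∀ x, Crv77.hmap Γ(Y, ⊤) ((Crv77.twist L).map r) j (Crv77.hmap Γ(Y, ⊤) ((Crv77.twist L).map u) j x) = x := by
    intro x
    rw [Crv77.hmap_comp, ← Functor.map_comp, hur, CategoryTheory.Functor.map_id]
    exact Crv77.hmap_id _ _ _ x
  rw [← key a, ← key b]
  exact congrArg _ (Subsingleton.elim (α := Coh.HH Y (CohB1.tensorMod ((Coh.push π).obj (Coh.structureModule X)) L) j) _ _)

end Groth.Agent.AbTI73
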