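import Groth.Agent.AbTI73.Mumford
import Groth.Agent.AbTI73.Retract
import Groth.Agent.Tors73.PRank
import Groth.Agent.RB70.AmpleVanish
import Groth.Agent.Var76.VarDim
import Groth.Agent.AbDeg57.RankPow
import Groth.Agent.Crv77.FiniteSupp

/-!
Ample modules on an abelian variety have no higher cohomology.
-/

set_option autoImplicit false
set_option maxSynthPendingDepth 6
set_option linter.style.haveILetI false
set_option backward.isDefEq.respectTransparency.types false
universe u

open CategoryTheory CategoryTheory.Limits MonoidalCategory CartesianMonoidalCategory MonObj AlgebraicGeometry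
open TopologicalSpace

noncomputable section

namespace Groth.Agent.AbTI73

open Ampl73 (Pts pt rT)
open AbSquare57 (pb pb_comp pb_cls pb_id)

variable {K : Type u} [Field K] [IsAlgClosed K] {A : Over (Spec (CommRingCat.of K))} [GrpObj A]
  [IsProper A.hom] [GeometricallyIntegral A.hom]

omit [IsAlgClosed K] [GrpObj A] in
theorem exists_dim_nat : ∃ g : ℕ, topologicalKrullDim A.left = g := by
  haveI : IsIntegral A.left := GeometricallyIntegral.isIntegral_of_subsingleton A.hom
  let : A.left.Over (Spec (CommRingCat.of K)) := ⟨A.hom⟩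
  have : LocallyOfFiniteType (A.left ↘ Spec (CommRingCat.of K)) := inferInstanceAs (LocallyOfFiniteType A.hom)
  exact ⟨_, Var76.VarDim.dim_eq (k := K)⟩

/-- Some translate of a class of an ample module is symmetric. -/
theorem exists_translate_symmetric {L : A.left.Modules} (hL : CohB1.IsAmple L) :
    ∃ y : Pts A, pb ((𝟙 A)⁻¹ : A ⟶ A).left (pb (rT y).left (PicGrp.cls L hL.1)) =
      pb (rT y).left (PicGrp.cls L hL.1) := by
  have := comm_A (A := A)
  set c := PicGrp.cls L hL.1
  let ic := pb ((𝟙 A)⁻¹ : A ⟶ A).left c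
  have hm : IsTI (ic / c) := fun a => by
    rw [map_div, div_eq_div_iff_mul_eq_mul]
    exact phi_inv_pullback c a
  obtain ⟨x, hx⟩ := exists_phi_eq (vanishingTI (A := A)) (finite_fixing hL) hm
  obtain ⟨y, hy⟩ := Tors73.divisible A 2 one_le_two x
  refine ⟨y, ?_⟩
  have e : pb (rT y).left c = phi c y * c := (div_mul_cancel _ _).symm
  have h1 := pb_inv_of_isTI (isTI_phi c y) (𝟙 A)
  rw [Over.id_left, pb_id] at h1
  have h2 : ic = phi c y * phi c y * c := by
    rw [← phi_mul, ← pow_two, hy, hx, div_mul_cancel]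
  rw [e, map_mul, h1]
  show (phi c y)⁻¹ * ic = _
  rw [h2, ← _root_.mul_assoc, ← _root_.mul_assoc, _root_.inv_mul_cancel, _root_.one_mul]

omit [IsAlgClosed K] in
theorem subsingleton_hh_of_symmetric {L : A.left.Modules} (hL : CohB1.IsAmple L)
    (hsym : Nonempty ((Scheme.Modules.pullback ((𝟙 A)⁻¹ : A ⟶ A).left).obj L ≅ L)) (j : ℕ) (hj : 1 ≤ j) :
    Subsingleton (Coh.HH A.left L j) := by
  haveI : IsLocallyNoetherian A.left := LocallyOfFiniteType.isLocallyNoetherian A.hom
  obtain ⟨g, hg⟩ := exists_dim_nat (A := A)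
  obtain ⟨n₀, hn₀⟩ := RB70.exists_vanishing_ample A.hom hL (Coh.structureModule A.left)
    (Amp73.isCoh_of_isInvertible (EGA73.isInvertible_structureModule))
  obtain ⟨n, hn, hp⟩ := Nat.exists_infinite_primes (max n₀ (ringChar K) + 1)
  have hn1 : 1 ≤ n := hp.one_le
  have hnK : (n : K) ≠ 0 := fun h => by
    rcases hp.eq_one_or_self_of_dvd _ ((ringChar.spec K n).1 h) with h1 | h1
    · exact CharP.ringChar_ne_one h1
    · omega
  haveI := AbDeg57.isFinite_pow (A := A) n hn1
  haveI := AbDeg57.flat_pow (A := A) n hn1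
  have : LocallyOfFinitePresentation (𝟙 A ^ n : A ⟶ A).left :=
    have : IsLocallyNoetherian A.left := inferInstance
    inferInstance
  refine subsingleton_hh_of_pullback (𝟙 A ^ n : A ⟶ A).left (n ^ (2 * g))
    (AbDeg57.finrank_pow g hg n hn1) ?_ hL.1 j ?_
  · have h := (isUnit_iff_ne_zero.2 (pow_ne_zero (2 * g) hnK)).map
      ((Scheme.ΓSpecIso (CommRingCat.of K)).inv ≫ A.hom.appTop).hom
    rw [← Nat.cast_pow, map_natCast] at h
    exact h
  · obtain ⟨e⟩ := AbDeg57.nonempty_pullback_pow_iso hL.1 hsym n hn1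
    refine ValVan29.subsingleton_hh_of_iso (EGA73.tensUnitLeft _ ≪≫ e.symm) j (hn₀ (n * n) ?_ j hj)
    nlinarith [le_max_left n₀ (ringChar K)]

/-- An ample module on an abelian variety has no higher cohomology. -/
theorem subsingleton_hh_of_isAmple {L : A.left.Modules} (hL : CohB1.IsAmple L) (j : ℕ) (hj : 1 ≤ j) :
    Subsingleton (Coh.HH A.left L j) := by
  obtain ⟨y, hy⟩ := exists_translate_symmetric hL
  let M := (Scheme.Modules.pullback (rT y).left).obj L
  haveI : IsAffineHom (rT y).left := inferInstance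
  have hM : CohB1.IsAmple M := Amp73.isAmple_pullback _ (Amp73.isQuasiAffine_of_isAffineHom _) hL
  rw [pb_cls _ hL.1, pb_cls] at hy
  haveI : L.IsQuasicoherent := (Amp73.isCoh_of_isInvertible hL.1).1
  exact (ASB64.subsingleton_hh_pullback_iso (rT y).left L j).1
    (subsingleton_hh_of_symmetric hM ((PicGrp.cls_eq_cls_iff _ _).1 hy) j hj)

/-- An ample module on an abelian variety has a non-zero section. -/
theorem not_subsingleton_h0_of_isAmple {L : A.left.Modules} (hL : CohB1.IsAmple L) :
    ¬ Subsingleton (Coh.HH A.left L 0) := by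
  intro h0
  have hvanL : ∀ q, Subsingleton (Coh.HH A.left L q) := fun q =>
    q.eq_zero_or_pos.elim (fun h => h ▸ h0) fun h => subsingleton_hh_of_isAmple hL q h
  haveI : IsProper (A ⊗ A).hom := inferInstanceAs (IsProper (pullback.fst A.hom A.hom ≫ A.hom))
  haveI : HasInjectiveResolutions (A ⊗ A).left.Modules := inferInstance
  haveI := Ampl73.isIntegral_left (A := A)
  set c := PicGrp.cls L hL.1
  obtain ⟨E, hE, hEq⟩ := PicGrp.exists_eq_cls (lam c)
  obtain ⟨D, hD, hDq⟩ := PicGrp.exists_eq_cls (pb (fst A A).left c / pb (snd A A).left c)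
  have hDv : ∀ τ, SliceVan (X := A) D τ := fun τ q => by
    refine subsingleton_hh_of_cls_eq hL.1 (PicLoc.isInvertible_pullback _ hD) ?_ q (hvanL q)
    rw [← pb_cls _ hD, ← hDq, map_div, (cls_sliced τ c).1, (cls_sliced τ c).2, div_one]
  -- the twist of `E` by the second factor has no cohomology
  let E' := CohB1.tensorMod ((Scheme.Modules.pullback (snd A A).left).obj L) E
  have hE' : PicF.IsInvertible E' := EGA73.isInvertible_tensorMod (PicLoc.isInvertible_pullback _ hL.1) hE
  let θ : A ⊗ A ⟶ A ⊗ A := CartesianMonoidalCategory.lift (add A) (fst A A)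
  let θ' : A ⊗ A ⟶ A ⊗ A := CartesianMonoidalCategory.lift (snd A A) ((snd A A)⁻¹ * fst A A)
  have hθ : IsIso θ.left := by
    have e1 : θ ≫ θ' = 𝟙 _ := by
      rw [CartesianMonoidalCategory.comp_lift, MonObj.comp_mul, GrpObj.comp_inv, lift_fst, lift_snd, add,
        _root_.inv_mul_cancel_left, lift_fst_snd]
    have e2 : θ' ≫ θ = 𝟙 _ := by
      rw [CartesianMonoidalCategory.comp_lift, add, MonObj.comp_mul, lift_fst, lift_snd,
        _root_.mul_inv_cancel_left, lift_fst_snd]
    exact ⟨⟨θ'.left, by rw [← Over.comp_left, e1]; rfl, by rw [← Over.comp_left, e2]; rfl⟩⟩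
  have hE'van : ∀ q, Subsingleton (Coh.HH (A ⊗ A).left E' q) := fun q => by
    haveI : D.IsQuasicoherent := (Amp73.isCoh_of_isInvertible hD).1
    refine subsingleton_hh_of_cls_eq (PicLoc.isInvertible_pullback θ.left hD) hE' ?_ q
      ((ASB64.subsingleton_hh_pullback_iso θ.left D q).2 (subsingleton_hh_of_forall_sliceVan hD hDv q))
    rw [← pb_cls _ hD, ← hDq, ← cls_mul_cls' (PicLoc.isInvertible_pullback _ hL.1) hE, ← pb_cls _ hL.1, ← hEq,
      map_div, ← pb_comp, ← pb_comp, ← Over.comp_left, ← Over.comp_left, lift_fst, lift_snd, lam,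
      ← div_div, mul_div_cancel]
  -- the higher direct images of `E` are finitely supported, hence unchanged by the twist
  have hS₀ := finite_fixing hL
  let S₀ : Set (Pts A) := {a | pb (rT a).left c = c}
  have hcl : ∀ x ∈ pt '' S₀, IsClosed ({x} : Set A.left) := by
    rintro _ ⟨σ, -, rfl⟩; exact Ampl73.isClosed_pt σ
  have hv : ∀ τ ∉ S₀, SliceVan (X := A) E τ := fun τ hτ => by
    refine vanishingTI _ (PicLoc.isInvertible_pullback _ hE) ?_ ?_
    · rw [← pb_cls _ hE, ← hEq, pb_slice_lam]; exact isTI_phi c τ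
    · rw [← pb_cls _ hE, ← hEq, pb_slice_lam]; exact fun h => hτ (div_eq_one.1 h)
  have hv' : ∀ τ ∉ S₀, SliceVan (X := A) E' τ := fun τ hτ q => by
    refine subsingleton_hh_of_cls_eq (PicLoc.isInvertible_pullback _ hE) (PicLoc.isInvertible_pullback _ hE') ?_ q (hv τ hτ q)
    rw [← pb_cls _ hE, ← pb_cls _ hE', ← cls_mul_cls' (PicLoc.isInvertible_pullback _ hL.1) hE, map_mul,
      ← pb_cls _ hL.1, (cls_sliced τ _).2, _root_.one_mul]
  have hs := fun q => exists_suppIn hE hS₀ q (fun τ hτ => hv τ hτ q)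
  have hs' := fun q => exists_suppIn hE' hS₀ q (fun τ hτ => hv' τ hτ q)
  have hvanE : ∀ q, Subsingleton (Coh.HH (A ⊗ A).left E q) := fun q => by
    refine (subsingleton_hh_iff_of_suppIn (snd A A).left E (hS₀.image pt) hcl hs q).2 ?_
    obtain ⟨i⟩ := (hs q).nonempty_iso_tensorMod (hS₀.image pt) hcl hL.1
    obtain ⟨pf⟩ := projection_rpush (snd A A).left E L (isFinLocFree_of_isInvertible hL.1) q
    let j := ((sheafSections (Opens.grothendieckTopology A.left) AddCommGrpCat.{u}).obj (Opposite.op ⊤)).mapIso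
      ((SheafOfModules.toSheaf A.left.ringCatSheaf).mapIso (i ≪≫ EGA73.tensComm _ _ ≪≫ pf))
    exact (j.addCommGroupIsoToAddEquiv.toEquiv.subsingleton_congr).2
      ((subsingleton_hh_iff_of_suppIn (snd A A).left E' (hS₀.image pt) hcl hs' q).1 (hE'van q))
  have hz := subsingleton_slice_zero hE hS₀ hv hvanE (1 : Pts A)
  refine not_subsingleton_hh_zero_structureModule A.left
    (subsingleton_hh_of_cls_eq (PicLoc.isInvertible_pullback _ hE) (PicLoc.isInvertible_structureModule _) ?_ 0 hz)
  rw [← pb_cls _ hE, ← hEq, pb_slice_lam, phi_one]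
  exact PicGrp.cls_structureModule_eq_one.symm

end Groth.Agent.AbTI73
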