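import Groth.Agent.AbTI73.Seesaw

/-!
Translation-invariant classes on an abelian variety and the subgroup fixing a class.
-/

set_option autoImplicit false
set_option maxSynthPendingDepth 6
set_option backward.isDefEq.respectTransparency.types false
universe u

open CategoryTheory CategoryTheory.Limits MonoidalCategory CartesianMonoidalCategory MonObj AlgebraicGeometry
open TopologicalSpace

noncomputable section

namespace Groth.Agent.AbTI73

open Ampl73 (Pts pt rT)
open AbSquare57 (pb pb_comp pb_cls pb_id)

variable {K : Type u} [Field K] {A B : Over (Spec (CommRingCat.of K))} [GrpObj A] [GrpObj B]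

/-- the addition, as the product of the projections -/
def add (A : Over (Spec (CommRingCat.of K))) [GrpObj A] : A ⊗ A ⟶ A := fst A A * snd A A

theorem comp_add {V : Over (Spec (CommRingCat.of K))} (u v : V ⟶ A) :
    CartesianMonoidalCategory.lift u v ≫ add A = u * v := by
  rw [add, MonObj.comp_mul, lift_fst, lift_snd]

/-- the Mumford class of a class -/
def lam (c : AbSquare57.Pic A.left) : AbSquare57.Pic (A ⊗ A).left :=
  pb (add A).left c / (pb (fst A A).left c * pb (snd A A).left c)

theorem pb_lift_lam (c : AbSquare57.Pic A.left) {V : Over (Spec (CommRingCat.of K))} (u v : V ⟶ A) :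
    pb (CartesianMonoidalCategory.lift u v).left (lam c) = pb (u * v).left c / (pb u.left c * pb v.left c) := by
  rw [lam, map_div, map_mul]
  simp only [← pb_comp, ← Over.comp_left, comp_add, lift_fst, lift_snd]

/-- a class fixed by all translations -/
def IsTI (c : AbSquare57.Pic A.left) : Prop := ∀ a : Pts A, pb (rT a).left c = c

/-- the difference of a translate and the class -/
def phi (c : AbSquare57.Pic A.left) (a : Pts A) : AbSquare57.Pic A.left := pb (rT a).left c / c

variable [IsAlgClosed K] [IsProper A.hom] [GeometricallyIntegral A.hom]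

omit [IsAlgClosed K] in
theorem comm_A : IsCommMonObj A := by
  have : GeometricallyConnected A.hom := FBase64.geometricallyConnected_of_geometricallyIrreducible _
  exact Groth.Agent.S7785.result A

omit [IsAlgClosed K] [GrpObj A] [IsProper A.hom] [GeometricallyIntegral A.hom] in
theorem slice_eq_lift (a : Pts A) : slice A a = CartesianMonoidalCategory.lift (𝟙 A) (toUnit A ≫ a) := rfl

omit [IsProper A.hom] [GeometricallyIntegral A.hom] [IsAlgClosed K] in
theorem pb_slice_lam (c : AbSquare57.Pic A.left) (a : Pts A) :
    pb (slice A a).left (lam c) = phi c a := by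
  rw [slice_eq_lift, pb_lift_lam, Over.id_left, pb_id, AbSquare57.pb_const, _root_.mul_one]
  rfl

/-- A class is translation invariant exactly when its Mumford class is trivial. -/
theorem isTI_iff_lam (c : AbSquare57.Pic A.left) : IsTI c ↔ lam c = 1 := by
  constructor
  · intro h
    have := Ampl73.isIntegral_left (A := A)
    obtain ⟨d, hd⟩ := eq_pullback_of_slices (X := A) (T := A) (lam c) fun a => by
      rw [pb_slice_lam, phi, h a, div_self']
    have h1 : pb (CartesianMonoidalCategory.lift (1 : A ⟶ A) (𝟙 A)).left (lam c) = d := by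
      rw [hd, ← pb_comp, ← Over.comp_left, lift_snd, Over.id_left, pb_id]
    rw [pb_lift_lam, _root_.one_mul, AbSquare57.pb_one, _root_.one_mul, Over.id_left, pb_id, div_self'] at h1
    rw [hd, ← h1, map_one]
  · intro h a
    have h1 := pb_slice_lam c a
    rw [h, map_one] at h1
    exact div_eq_one.1 h1.symm

/-- A translation-invariant class is additive on points with values anywhere. -/
theorem pb_mul_of_isTI {c : AbSquare57.Pic A.left} (hc : IsTI c) {V : Over (Spec (CommRingCat.of K))}
    (u v : V ⟶ A) : pb (u * v).left c = pb u.left c * pb v.left c := by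
  have h := pb_lift_lam c u v
  rw [(isTI_iff_lam c).1 hc, map_one] at h
  exact div_eq_one.1 h.symm

theorem pb_inv_of_isTI {c : AbSquare57.Pic A.left} (hc : IsTI c) {V : Over (Spec (CommRingCat.of K))}
    (u : V ⟶ A) : pb (u⁻¹).left c = (pb u.left c)⁻¹ := by
  refine eq_inv_of_mul_eq_one_left ?_
  rw [← pb_mul_of_isTI hc, _root_.inv_mul_cancel, AbSquare57.pb_one]

omit [IsAlgClosed K] in
theorem phi_mul (c : AbSquare57.Pic A.left) (a b : Pts A) : phi c (a * b) = phi c a * phi c b := by
  have h := AbSquare57.square c a b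
  simp only [phi]
  rw [div_mul_div_comm, div_eq_div_iff_mul_eq_mul]
  calc pb (rT (a * b)).left c * (c * c) = pb (rT (a * b)).left c * c * c := (_root_.mul_assoc _ _ _).symm
    _ = _ := congrArg (· * c) h

omit [IsAlgClosed K] [IsProper A.hom] [GeometricallyIntegral A.hom] in
theorem phi_one (c : AbSquare57.Pic A.left) : phi c (1 : Pts A) = 1 := by
  rw [phi, Ampl73.rT_one, Over.id_left, pb_id, div_self']

omit [IsAlgClosed K] in
theorem isTI_phi (c : AbSquare57.Pic A.left) (a : Pts A) : IsTI (phi c a) := by
  intro b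
  simp only [phi, map_div, ← pb_comp, Ampl73.rT_left_comp]
  rw [div_eq_div_iff_mul_eq_mul]
  have h := AbSquare57.square c b a
  exact h.trans (_root_.mul_comm _ _)

/-- The points fixing a class are those of a closed set. -/
theorem exists_closed_fixing (c : AbSquare57.Pic A.left) :
    ∃ Z : Set A.left, IsClosed Z ∧ ∀ a : Pts A, pt a ∈ Z ↔ pb (rT a).left c = c := by
  obtain ⟨Z, hZ, h⟩ := exists_closed_trivial_locus (X := A) (T := A) (lam c)
  exact ⟨Z, hZ, fun a => by rw [h, pb_slice_lam, phi, div_eq_one]⟩

theorem phi_inv_pullback (c : AbSquare57.Pic A.left) (a : Pts A) :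
    pb (rT a).left (pb ((𝟙 A)⁻¹ : A ⟶ A).left c) * c = pb ((𝟙 A)⁻¹ : A ⟶ A).left c * pb (rT a).left c := by
  have := comm_A (A := A)
  have e : rT a ≫ (𝟙 A)⁻¹ = (𝟙 A)⁻¹ ≫ rT a⁻¹ := by
    rw [Ampl73.comp_rT, GrpObj.comp_inv, Category.comp_id, GrpObj.comp_inv, rT, _root_.mul_inv_rev,
      _root_.mul_comm]
  rw [← pb_comp, ← Over.comp_left, e, Over.comp_left, pb_comp,
    show pb (rT a⁻¹).left c = phi c a⁻¹ * c from (div_mul_cancel _ _).symm, map_mul]
  have h1 := pb_inv_of_isTI (isTI_phi c a⁻¹) (𝟙 A)
  rw [Over.id_left, pb_id] at h1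
  have h2 : phi c a⁻¹ = (phi c a)⁻¹ := by
    refine eq_inv_of_mul_eq_one_left ?_
    rw [← phi_mul, _root_.inv_mul_cancel, phi_one]
  rw [h1, h2, inv_inv, show pb (rT a).left c = phi c a * c from (div_mul_cancel _ _).symm]
  ac_rfl

end Groth.Agent.AbTI73
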