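import Groth.Agent.AbTI73.Finite

/-!
Isomorphisms of invertible modules as equalities of classes.
-/

set_option autoImplicit false
set_option maxSynthPendingDepth 6
set_option backward.isDefEq.respectTransparency.types false
universe u

open CategoryTheory CategoryTheory.Limits MonoidalCategory CartesianMonoidalCategory MonObj AlgebraicGeometry

noncomputable section

namespace Groth.Agent.AbTI73

open AbSquare57 (pb pb_cls)

variable {X Y Z : Scheme.{u}}

theorem pb_eq_cls_iff (g : X ⟶ Y) {L : Y.Modules} (hL : PicF.IsInvertible L) {M : X.Modules}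
    (hM : PicF.IsInvertible M) :
    pb g (PicGrp.cls L hL) = PicGrp.cls M hM ↔ Nonempty ((Scheme.Modules.pullback g).obj L ≅ M) := by
  rw [pb_cls, PicGrp.cls_eq_cls_iff]

theorem cls_mul_cls' {L M : X.Modules} (hL : PicF.IsInvertible L) (hM : PicF.IsInvertible M) :
    PicGrp.cls L hL * PicGrp.cls M hM = PicGrp.cls (CohB1.tensorMod L M) (EGA73.isInvertible_tensorMod hL hM) :=
  Subtype.ext rfl

theorem isTI_cls_iff {K : Type u} [Field K] {A : Over (Spec (CommRingCat.of K))} [GrpObj A]
    {L : A.left.Modules} (hL : PicF.IsInvertible L) :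
    IsTI (PicGrp.cls L hL) ↔ ∀ a : 𝟙_ (Over (Spec (CommRingCat.of K))) ⟶ A,
      Nonempty ((Scheme.Modules.pullback ((𝟙 A * (toUnit A ≫ a))).left).obj L ≅ L) :=
  forall_congr' fun _ => pb_eq_cls_iff _ hL hL

end Groth.Agent.AbTI73
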