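import Groth.Agent.AbTI73.IndexGrowth
import Groth.Agent.AlgGrp79.GenSubgroup
import Groth.Agent.Alb96.MaxAbelian
import Groth.Agent.WC97.Reduced

/-!
A degenerate invertible module has Euler characteristic zero.
-/

set_option autoImplicit false
set_option maxSynthPendingDepth 6
set_option linter.style.haveILetI false
set_option backward.isDefEq.respectTransparency.types false
universe u

open CategoryTheory CategoryTheory.Limits MonoidalCategory CartesianMonoidalCategory MonObj AlgebraicGeometry
open TopologicalSpace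

noncomputable section

namespace Groth.Agent.AbTI73

open Ampl73 (Pts pt rT)
open AbSquare57 (pb pb_comp pb_cls pb_id)

variable {K : Type u} [Field K]

theorem subsingleton_of_dim_zero {X : Scheme.{u}} [IsIntegral X] (h : topologicalKrullDim X = 0) :
    Subsingleton X := by
  have key : ∀ x : X, x = genericPoint X := fun x => by
    by_contra hne
    have hlt : (⟨closure {x}, isIrreducible_singleton.closure, isClosed_closure⟩ : IrreducibleCloseds X) <
        ⟨Set.univ, IrreducibleSpace.isIrreducible_univ X, isClosed_univ⟩ := by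
      refine lt_of_le_of_ne (fun y _ => trivial) fun he => hne ?_
      refine ((show IsGenericPoint x Set.univ from congrArg SetLike.coe he).eq ?_)
      exact genericPoint_spec X
    have h1 : 1 ≤ topologicalKrullDim X := Order.one_le_krullDim_iff.2 ⟨_, _, hlt⟩
    rw [h] at h1
    exact absurd h1 (by decide)
  exact ⟨fun a b => (key a).trans (key b).symm⟩

/-- A finite surjective morphism of abelian varieties is flat. -/
theorem flat_of_isFinite_surjective {X Y : Over (Spec (CommRingCat.of K))} [GrpObj X] [GrpObj Y]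
    [IsProper X.hom] [GeometricallyIntegral X.hom] [IsProper Y.hom] [GeometricallyIntegral Y.hom]
    (f : X ⟶ Y) [IsFinite f.left] [Surjective f.left] : Flat f.left := by
  haveI : IsIntegral X.left := GeometricallyIntegral.isIntegral_of_subsingleton X.hom
  haveI : IsIntegral Y.left := GeometricallyIntegral.isIntegral_of_subsingleton Y.hom
  haveI : Smooth X.hom := S7795.result X
  haveI : Smooth Y.hom := S7795.result Y
  haveI : IsLocallyNoetherian Y.left := LocallyOfFiniteType.isLocallyNoetherian Y.hom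
  refine (NeronHD28.flat_iff_locallyQuasiFinite_of_regular _
    (fun x => VarGal.isRegularLocalRing_stalk_of_smooth X.hom x)
    (fun x => VarGal.isRegularLocalRing_stalk_of_smooth Y.hom x) ?_ (f.left.finite_preimage_singleton _)).2
    inferInstance
  exact ((genericPoint_spec X.left).image f.left.continuous).eq
    (by rw [Set.image_univ, Set.range_eq_univ.2 f.left.surjective, closure_univ]; exact genericPoint_spec Y.left)

theorem exists_finrank_eq {X Y : Scheme.{u}} (f : X ⟶ Y) [IsFinite f] [Flat f] [Surjective f] [IsIntegral Y]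
    [IsLocallyNoetherian Y] : ∃ d, 1 ≤ d ∧ ∀ y, f.finrank y = d := by
  obtain ⟨x, hx⟩ := f.surjective (genericPoint Y)
  refine ⟨f.finrank (genericPoint Y), hx ▸ Scheme.Hom.one_le_finrank_map f x, fun y => ?_⟩
  exact (Scheme.Hom.isLocallyConstant_finrank f).apply_eq_of_preconnectedSpace _ _

variable [IsAlgClosed K] {A : Over (Spec (CommRingCat.of K))} [GrpObj A] [IsProper A.hom] [GeometricallyIntegral A.hom]

/-- Infinitely many translations fixing a class give an abelian subvariety fixing it. -/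
theorem exists_subvariety_fixing {c : AbSquare57.Pic A.left}
    (hinf : ¬ {a : Pts A | pb (rT a).left c = c}.Finite) :
    ∃ (B : Over (Spec (CommRingCat.of K))) (_ : GrpObj B) (i : B ⟶ A), IsMonHom i ∧ IsClosedImmersion i.left ∧
      IsProper B.hom ∧ GeometricallyIntegral B.hom ∧ ¬ Subsingleton B.left ∧
      ∀ b : Pts B, phi c (b ≫ i) = 1 := by
  obtain ⟨Z, hZ, hZa⟩ := exists_closed_fixing c
  have hinf' : (Z : Set A.left).Infinite := fun hfin => hinf (by
    refine (hfin.subset ?_).of_finite_image Ampl73.pt_injective.injOn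
    rintro _ ⟨a, ha, rfl⟩
    exact (hZa a).2 ha)
  haveI : IsLocallyNoetherian A.left := LocallyOfFiniteType.isLocallyNoetherian A.hom
  haveI : CompactSpace A.left := QuasiCompact.compactSpace_of_compactSpace A.hom
  haveI : AlgebraicGeometry.IsNoetherian A.left := {}
  obtain ⟨S, hSfin, hSc, hS, hSeq⟩ := NoetherianSpace.exists_finite_set_isClosed_irreducible hZ
  obtain ⟨F, hFS, hFinf⟩ : ∃ F ∈ S, F.Infinite := by
    by_contra hh
    push Not at hh
    rw [hSeq, Set.sUnion_eq_biUnion] at hinf'
    exact hinf' (hSfin.biUnion fun F hF => hh F hF)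
  let F' : Closeds A.left := ⟨F, hSc F hFS⟩
  let iF := (Scheme.IdealSheafData.vanishingIdeal F').subschemeι
  have hrange : Set.range iF = F := by
    rw [Scheme.IdealSheafData.range_subschemeι, Scheme.IdealSheafData.coe_support_vanishingIdeal]; rfl
  let FX : Over (Spec (CommRingCat.of K)) := Over.mk (iF ≫ A.hom)
  let j₀ : FX ⟶ A := Over.homMk iF rfl
  haveI hint : IsIntegral FX.left := Curves2.isIntegral_vanishingIdeal F' (hS F hFS)
  haveI : IsProper FX.hom := inferInstanceAs (IsProper (iF ≫ A.hom))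
  haveI : JacobsonSpace FX.left := LocallyOfFiniteType.jacobsonSpace FX.hom
  obtain ⟨x, -, hx⟩ := nonempty_inter_closedPoints (Z := (Set.univ : Set FX.left))
    ⟨Classical.arbitrary _, trivial⟩ isClosed_univ.isLocallyClosed
  obtain ⟨σ₀, -⟩ := Ampl73.exists_pt (A := FX) x hx
  have hfix : ∀ σ : Pts FX, phi c (σ ≫ j₀) = 1 := fun σ => by
    rw [phi, div_eq_one, ← hZa, hSeq]
    refine ⟨F, hFS, hrange ▸ ⟨pt σ, rfl⟩⟩
  let j : FX ⟶ A := j₀ ≫ rT (σ₀ ≫ j₀)⁻¹
  haveI : IsClosedImmersion j.left := by
    rw [Over.comp_left]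
    exact inferInstanceAs (IsClosedImmersion (iF ≫ (rT (σ₀ ≫ j₀)⁻¹).left))
  have hfix' : ∀ σ : Pts FX, phi c (σ ≫ j) = 1 := fun σ => by
    show phi c (σ ≫ (j₀ ≫ rT (σ₀ ≫ j₀)⁻¹)) = 1
    rw [← Category.assoc, Ampl73.pts_comp_rT, phi_mul, hfix, _root_.one_mul]
    have h3 := phi_mul c (σ₀ ≫ j₀) (σ₀ ≫ j₀)⁻¹
    rw [_root_.mul_inv_cancel, phi_one, hfix, _root_.one_mul] at h3
    exact h3.symm
  have hσ₀ : σ₀ ≫ j = 1 := by
    show σ₀ ≫ (j₀ ≫ rT (σ₀ ≫ j₀)⁻¹) = 1
    rw [← Category.assoc, Ampl73.pts_comp_rT, _root_.mul_inv_cancel]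
  let Fam : AlgGrp79.Fam A := ⟨FX, j, σ₀, hσ₀, inferInstance, inferInstance, inferInstance, inferInstance⟩
  obtain ⟨B, hB, i, hi, hic, hsm, hirr, hpts⟩ := AlgGrp79.exists_generated Fam
  haveI hBp : IsProper B.hom := by rw [← Over.w i]; infer_instance
  haveI : IsReduced B.left := WC97.isReduced_of_smooth B.hom
  haveI : IrreducibleSpace B.left := hirr
  haveI : IsIntegral B.left := isIntegral_of_irreducibleSpace_of_isReduced _
  have hsub : ∀ b : Pts B, phi c (b ≫ i) = 1 := fun b => by
    let φ : Pts A →* AbSquare57.Pic A.left := { toFun := phi c, map_one' := phi_one c, map_mul' := phi_mul c }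
    have hle : Subgroup.closure Fam.pts ≤ φ.ker := by
      refine (Subgroup.closure_le _).2 ?_
      rintro _ ⟨p, rfl⟩
      exact hfix' p
    exact hle (by rw [← SetLike.mem_coe, ← hpts]; exact ⟨b, rfl⟩)
  refine ⟨B, hB, i, hi, hic, hBp, Ampl73.geometricallyIntegral_of_isIntegral B.hom, fun hss => ?_, hsub⟩
  have hss' : Set.range j.left ⊆ Set.range i.left := by
    refine AlgGrp79.range_subset_of_pts j i.left.isClosedEmbedding.isClosed_range fun p => ?_
    obtain ⟨d, hd⟩ : p ≫ j ∈ Set.range fun d : Pts B => d ≫ i := hpts ▸ Subgroup.subset_closure ⟨p, rfl⟩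
    rw [← show d ≫ i = p ≫ j from hd]
    exact ⟨_, rfl⟩
  have hFX : Subsingleton FX.left := ⟨fun a b => j.left.isClosedEmbedding.injective (by
    obtain ⟨a', ha⟩ := hss' ⟨a, rfl⟩
    obtain ⟨b', hb⟩ := hss' ⟨b, rfl⟩
    rw [← ha, ← hb, Subsingleton.elim a' b'])⟩
  haveI : Finite (Scheme.IdealSheafData.vanishingIdeal F').subscheme := @Finite.of_subsingleton _ hFX
  exact hFinf (hrange ▸ (Set.finite_range iF))

/-- A class fixed by an abelian subvariety is additive in its direction. -/
theorem pb_mul_of_fixed {c : AbSquare57.Pic A.left} {B : Over (Spec (CommRingCat.of K))} [GrpObj B]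
    [IsProper B.hom] [GeometricallyIntegral B.hom] (i : B ⟶ A) [IsMonHom i] (h : ∀ b : Pts B, phi c (b ≫ i) = 1)
    {V : Over (Spec (CommRingCat.of K))} (u : V ⟶ A) (v : V ⟶ B) :
    pb (u * (v ≫ i)).left c = pb u.left c * pb (v ≫ i).left c := by
  haveI : IsIntegral B.left := GeometricallyIntegral.isIntegral_of_subsingleton B.hom
  obtain ⟨d, hd⟩ := eq_pullback_of_slices (X := A) (T := B)
    (pb (CartesianMonoidalCategory.lift (fst A B) (snd A B ≫ i)).left (lam c)) fun σ => by
      rw [← pb_comp, ← Over.comp_left, CartesianMonoidalCategory.comp_lift, slice_fst, ← Category.assoc,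
        slice_snd, Category.assoc, ← slice_eq_lift, pb_slice_lam, h]
  have hd1 : d = 1 := by
    have h1 := congrArg (pb (CartesianMonoidalCategory.lift (1 : B ⟶ A) (𝟙 B)).left) hd
    rw [← pb_comp, ← pb_comp, ← Over.comp_left, ← Over.comp_left, CartesianMonoidalCategory.comp_lift, lift_fst,
      lift_snd, ← Category.assoc, lift_snd, Category.id_comp, Over.id_left, pb_id, pb_lift_lam, _root_.one_mul,
      AbSquare57.pb_one, _root_.one_mul, div_self'] at h1
    exact h1.symm
  rw [hd1, map_one] at hd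
  have h1 := congrArg (pb (CartesianMonoidalCategory.lift u v).left) hd
  rw [map_one, ← pb_comp, ← Over.comp_left, CartesianMonoidalCategory.comp_lift, lift_fst, ← Category.assoc,
    lift_snd, pb_lift_lam] at h1
  exact div_eq_one.1 h1

/-- The Euler characteristic of a degenerate invertible module vanishes. -/
theorem euler_eq_zero_of_infinite {L : A.left.Modules} (hL : PicF.IsInvertible L)
    (hinf : ¬ {a : Pts A | pb (rT a).left (PicGrp.cls L hL) = PicGrp.cls L hL}.Finite) :
    @Curv2.euler K _ A.left ⟨A.hom⟩ L = 0 := by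
  obtain ⟨B, _, i, _, _, _, _, hB, hfix⟩ := exists_subvariety_fixing hinf
  obtain ⟨C, _, j, _, _, _, _, hsurj, hfin⟩ := exists_complement i
  have := comm_A (A := A)
  set s : B ⊗ C ⟶ A := (fst B C ≫ i) * (snd B C ≫ j)
  haveI : IsProper (B ⊗ C).hom := inferInstanceAs (IsProper (pullback.fst B.hom C.hom ≫ B.hom))
  haveI : GeometricallyIntegral (B ⊗ C).hom := Alb96.geometricallyIntegral_tensor B C
  haveI : IsIntegral A.left := GeometricallyIntegral.isIntegral_of_subsingleton A.hom
  haveI : IsLocallyNoetherian A.left := LocallyOfFiniteType.isLocallyNoetherian A.hom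
  haveI : Flat s.left := flat_of_isFinite_surjective s
  obtain ⟨d, hd1, hd⟩ := exists_finrank_eq s.left
  suffices h : @Curv2.euler K _ (B ⊗ C).left ⟨(B ⊗ C).hom⟩ ((Scheme.Modules.pullback s.left).obj L) = 0 by
    rw [euler_pullback s d hd L (Amp73.isCoh_of_isInvertible hL)] at h
    exact (mul_eq_zero.1 h).resolve_left (by exact_mod_cast (by omega : d ≠ 0))
  set c := PicGrp.cls L hL
  obtain ⟨E, hE, hEq⟩ := PicGrp.exists_eq_cls (pb i.left c)
  obtain ⟨M, hM, hMq⟩ := PicGrp.exists_eq_cls (pb j.left c)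
  have hs : pb s.left c = pb (fst B C).left (PicGrp.cls E hE) * pb (snd B C).left (PicGrp.cls M hM) := by
    rw [← hEq, ← hMq, ← pb_comp, ← pb_comp, ← Over.comp_left, ← Over.comp_left,
      show s = (snd B C ≫ j) * (fst B C ≫ i) from _root_.mul_comm _ _, pb_mul_of_fixed i hfix, _root_.mul_comm]
  have hTI : IsTI (A := B) (PicGrp.cls E hE) := fun b => by
    rw [← hEq, ← pb_comp, ← Over.comp_left]
    have e : rT b ≫ i = i * (toUnit B ≫ b ≫ i) := by
      rw [rT, MonObj.mul_comp, Category.id_comp, Category.assoc]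
    rw [e, ← Category.assoc, pb_mul_of_fixed i hfix, Category.assoc, AbSquare57.pb_const, _root_.mul_one]
  letI : (B ⊗ C).left.Over (Spec (CommRingCat.of K)) := ⟨(B ⊗ C).hom⟩
  haveI : IsProper ((B ⊗ C).left ↘ Spec (CommRingCat.of K)) := ‹IsProper (B ⊗ C).hom›
  by_cases hE1 : PicGrp.cls E hE = 1
  · obtain ⟨gB, hgB⟩ := exists_dim_nat (A := B)
    haveI : IsIntegral B.left := GeometricallyIntegral.isIntegral_of_subsingleton B.hom
    have hgB0 : gB ≠ 0 := by
      rintro rfl
      exact hB (subsingleton_of_dim_zero (by simpa using hgB))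
    haveI := AbDeg57.isFinite_pow (A := B) 2 (by omega)
    haveI := AbDeg57.flat_pow (A := B) 2 (by omega)
    let μ₂ : B ⊗ C ⟶ B ⊗ C := (𝟙 B ^ 2 : B ⟶ B) ▷ C
    haveI : IsFinite μ₂.left := MorphismProperty.of_isPullback (isPullback_whiskerRight _ C) ‹IsFinite (𝟙 B ^ 2 : B ⟶ B).left›
    haveI : Flat μ₂.left := MorphismProperty.of_isPullback (isPullback_whiskerRight _ C) ‹Flat (𝟙 B ^ 2 : B ⟶ B).left›
    have hrk : ∀ y, μ₂.left.finrank y = 2 ^ (2 * gB) := fun y => by
      rw [Scheme.Hom.finrank_of_isPullback _ _ _ _ (isPullback_whiskerRight _ C) y, AbDeg57.finrank_pow gB hgB 2 (by omega)]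
    let Q := (Scheme.Modules.pullback s.left).obj L
    have hQ : PicF.IsInvertible Q := PicLoc.isInvertible_pullback _ hL
    obtain ⟨e⟩ : Nonempty ((Scheme.Modules.pullback μ₂.left).obj Q ≅ Q) := by
      refine (pb_eq_cls_iff _ hQ hQ).1 ?_
      rw [← pb_cls _ hL, hs, hE1, map_one, _root_.one_mul, ← pb_comp, ← Over.comp_left, whiskerRight_snd]
    have h := euler_pullback μ₂ _ hrk Q (Amp73.isCoh_of_isInvertible hQ)
    rw [Crv77.euler_congr (k := K) e] at h
    have h2 : (2 : ℕ) ≤ 2 ^ (2 * gB) := Nat.le_self_pow (by omega) 2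
    have h3 : (((2 ^ (2 * gB) : ℕ) : ℤ) - 1) * Curv2.euler K (B ⊗ C).left Q = 0 := by
      rw [sub_mul, _root_.one_mul, ← h, sub_self]
    exact (mul_eq_zero.1 h3).resolve_left (by omega)
  · have h1 : PicF.IsInvertible ((Scheme.Modules.pullback (fst B C).left).obj E) := PicLoc.isInvertible_pullback _ hE
    have h2 : PicF.IsInvertible ((Scheme.Modules.pullback (snd B C).left).obj M) := PicLoc.isInvertible_pullback _ hM
    obtain ⟨e⟩ := (pb_eq_cls_iff s.left hL (EGA73.isInvertible_tensorMod h1 h2)).1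
      (by rw [hs, pb_cls, pb_cls, cls_mul_cls'])
    rw [Crv77.euler_congr (k := K) e]
    have hv : ∀ n, Subsingleton (Coh.HH (B ⊗ C).left
        (CohB1.tensorMod ((Scheme.Modules.pullback (fst B C).left).obj E) ((Scheme.Modules.pullback (snd B C).left).obj M)) n) :=
      fun n => (AbVanish7.subsingleton_HH_extTensor B.hom C.hom E (Amp73.isCoh_of_isInvertible hE).1 M
        (Amp73.isCoh_of_isInvertible hM).1 n).2 fun a b _ => Or.inl (vanishingTI (A := B) E hE hTI hE1 a)
    refine (euler_eq_of_concentrated K (i := 0) fun n _ => hv n).trans ?_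
    haveI := hv 0
    rw [Module.finrank_zero_of_subsingleton, Nat.cast_zero, mul_zero]

end Groth.Agent.AbTI73

end
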