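import Groth.Agent.LA18.FreeComplex
import Groth.Agent.Gor18.Regular
import Mathlib.RingTheory.Localization.AtPrime.Basic
import Mathlib.RingTheory.LocalRing.Module
import Mathlib.RingTheory.TensorProduct.Free

/-!
Finite projective complexes whose cohomology is killed by powers of a regular maximal ideal.
-/

set_option autoImplicit false
set_option linter.style.haveILetI false

universe u

open IsLocalRing

noncomputable section

namespace Groth.Agent.AbTI73

variable {R : Type u} [CommRing R] [IsNoetherianRing R] (m : Ideal R) [m.IsMaximal]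

/-- Boundaries at a regular point of dimension `g` in degrees below `g`. -/
theorem cycle_eq_boundary_of_regular (g : ℕ) [IsRegularLocalRing (Localization.AtPrime m)]
    (hg : ringKrullDim (Localization.AtPrime m) = g)
    (K : ℕ → Type u) [∀ i, AddCommGroup (K i)] [∀ i, Module R (K i)] [∀ i, Module.Finite R (K i)]
    [∀ i, Module.Projective R (K i)]
    (d : ∀ i, K i →ₗ[R] K (i + 1)) (hdd : ∀ i v, d (i + 1) (d i v) = 0)
    (hN : ∀ a ∈ m, ∀ i, ∀ z : K (i + 1), d (i + 1) z = 0 → i + 1 < g →
      ∃ n : ℕ, a ^ n • z ∈ LinearMap.range (d i))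
    (hN0 : ∀ a ∈ m, ∀ z : K 0, d 0 z = 0 → ∃ n : ℕ, a ^ n • z = 0) :
    (∀ z : K 0, d 0 z = 0 → 0 < g → z = 0) ∧
      ∀ i, ∀ z : K (i + 1), d (i + 1) z = 0 → i + 1 < g → z ∈ LinearMap.range (d i) := by
  classical
  haveI := Gor18.regular_gor (Localization.AtPrime m)
  haveI := Gor18.gor_cm (Localization.AtPrime m)
  -- uniform exponents
  let B₀ : ∀ i, Submodule R (K i) := fun i => match i with
    | 0 => ⊥
    | i + 1 => LinearMap.range (d i)
  have hu : ∀ i, i < g → ∃ N, ∀ c ∈ m ^ N, ∀ z : K i, d i z = 0 → c • z ∈ B₀ i := by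
    intro i hi
    have key : ∀ B : Submodule R (K i),
        (∀ a ∈ m, ∀ z : K i, d i z = 0 → ∃ n : ℕ, a ^ n • z ∈ B) →
        ∃ N, ∀ c ∈ m ^ N, ∀ z : K i, d i z = 0 → c • z ∈ B := fun B hB => by
      let J : Ideal R := B.colon (LinearMap.ker (d i) : Set (K i))
      have hJ : m ≤ J.radical := fun a ha => by
        obtain ⟨S, hS⟩ := IsNoetherian.noetherian (LinearMap.ker (d i))
        choose n hn using fun z : {z : K i // z ∈ S} => hB a ha z.1 (by
          have : z.1 ∈ LinearMap.ker (d i) := hS ▸ Submodule.subset_span z.2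
          exact this)
        refine ⟨Finset.univ.sup n, Submodule.mem_colon.2 fun z hz => ?_⟩
        rw [SetLike.mem_coe, ← hS] at hz
        induction hz using Submodule.span_induction with
        | mem z hz =>
          rw [← Nat.sub_add_cancel (Finset.le_sup (f := n) (Finset.mem_univ ⟨z, hz⟩)), pow_add, mul_smul]
          exact B.smul_mem _ (hn ⟨z, hz⟩)
        | zero => simp
        | add x y _ _ hx hy => rw [smul_add]; exact B.add_mem hx hy
        | smul c x _ hx => rw [smul_comm]; exact B.smul_mem _ hx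
      obtain ⟨N, hN⟩ := Ideal.exists_pow_le_of_le_radical_of_fg hJ (IsNoetherian.noetherian m)
      exact ⟨N, fun c hc z hz => Submodule.mem_colon.1 (hN hc) z hz⟩
    cases i with
    | zero => exact key ⊥ fun a ha z hz => (hN0 a ha z hz).imp fun n h => (Submodule.mem_bot R).2 h
    | succ i => exact key _ fun a ha z hz => hN a ha i z hz hi
  rcases Nat.eq_zero_or_pos g with rfl | hg0
  · exact ⟨fun _ _ h => absurd h (Nat.not_lt_zero _), fun i _ _ h => absurd h (Nat.not_lt_zero _)⟩
  choose N hN' using hu
  let M := (Finset.range g).attach.sup fun i => N i.1 (Finset.mem_range.1 i.2)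
  have hM : ∀ i (hi : i < g), N i hi ≤ M := fun i hi =>
    Finset.le_sup (f := fun i : {x // x ∈ Finset.range g} => N i.1 (Finset.mem_range.1 i.2))
      (Finset.mem_attach _ ⟨i, Finset.mem_range.2 hi⟩)
  let S := m.primeCompl
  let L := fun i => LocalizedModule S (K i)
  let dL : ∀ i, L i →ₗ[Localization.AtPrime m] L (i + 1) := fun i => LocalizedModule.map S (d i)
  have dmk : ∀ i (x : K i) (s : S), dL i (LocalizedModule.mk x s) = LocalizedModule.mk (d i x) s :=
    fun i x s => LocalizedModule.map_mk ..
  haveI : ∀ i, Module.Free (Localization.AtPrime m) (L i) := fun i => by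
    haveI : Module.Finite (Localization.AtPrime m) (L i) :=
      Module.Finite.of_isLocalizedModule S (LocalizedModule.mkLinearMap S (K i))
    haveI : Module.Projective (Localization.AtPrime m) (L i) :=
      Module.projective_of_isLocalizedModule S (LocalizedModule.mkLinearMap S (K i))
    exact Module.free_of_flat_of_isLocalRing
  -- cycles and powers of the maximal ideal of the localisation
  have hcyc : ∀ i (x : K i) (s : S), dL i (LocalizedModule.mk x s) = 0 → ∃ t : S, d i ((t : R) • x) = 0 :=
    fun i x s h => by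
      rw [dmk, ← LocalizedModule.zero_mk s, LocalizedModule.mk_eq] at h
      obtain ⟨t, ht⟩ := h
      refine ⟨t * s, ?_⟩
      rw [map_smul]
      simpa [Submonoid.smul_def, mul_smul] using ht
  have hkill : ∀ a ∈ maximalIdeal (Localization.AtPrime m), ∃ (c : R) (s : S),
      c ∈ m ^ (M + 1) ∧ a ^ (M + 1) = Localization.mk c s := fun a ha => by
    obtain ⟨c, s, rfl⟩ := IsLocalization.exists_mk'_eq S a
    refine ⟨c ^ (M + 1), s ^ (M + 1), Ideal.pow_mem_pow ?_ _, ?_⟩
    · exact (IsLocalization.AtPrime.mk'_mem_maximal_iff (Localization.AtPrime m) m c s).1 ha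
    · rw [← Localization.mk_eq_mk', Localization.mk_pow]
  have hfinal := LA18.cycle_eq_boundary g hg L dL
    (fun i v => by
      induction v using LocalizedModule.induction_on with
      | _ x s => rw [dmk, dmk, hdd, LocalizedModule.zero_mk])
    (M + 1)
    (fun a ha i z hz hi => by
      induction z using LocalizedModule.induction_on with
      | _ x s =>
      obtain ⟨t, ht⟩ := hcyc (i + 1) x s hz
      obtain ⟨c, u, hc, hcu⟩ := hkill a ha
      obtain ⟨w, hw⟩ := hN' (i + 1) hi c (Ideal.pow_le_pow_right ((hM _ hi).trans (Nat.le_succ _)) hc) _ ht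
      refine ⟨LocalizedModule.mk w (t * u * s), ?_⟩
      rw [dmk, hw, hcu, LocalizedModule.mk_smul_mk, LocalizedModule.mk_eq]
      refine ⟨1, ?_⟩
      simp [Submonoid.smul_def, smul_smul]
      ring_nf)
    (fun a ha z hz => by
      induction z using LocalizedModule.induction_on with
      | _ x s =>
      obtain ⟨t, ht⟩ := hcyc 0 x s hz
      obtain ⟨c, u, hc, hcu⟩ := hkill a ha
      have h := (Submodule.mem_bot R).1 (hN' 0 hg0 c (Ideal.pow_le_pow_right ((hM _ hg0).trans (Nat.le_succ _)) hc) _ ht)
      rw [hcu, LocalizedModule.mk_smul_mk, ← LocalizedModule.zero_mk (u * s), LocalizedModule.mk_eq]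
      refine ⟨t, ?_⟩
      simp only [Submonoid.smul_def, smul_zero]
      rw [smul_comm (t : R), smul_comm (t : R), h, smul_zero])
  -- back from the localisation
  have back : ∀ i (hi : i < g) (z : K i) (B : Submodule R (K i)), d i z = 0 →
      (∀ c ∈ m ^ N i hi, c • z ∈ B) → (∃ s : S, (s : R) • z ∈ B) → z ∈ B := by
    intro i hi z B _ hpow ⟨s, hs⟩
    let J : Ideal R := B.colon ({z} : Set (K i))
    have h1 : J = ⊤ := by
      by_contra hJ
      obtain ⟨n, hn, hle⟩ := J.exists_le_maximal hJ
      have hmn : m ≤ n := fun a ha => hn.isPrime.mem_of_pow_mem (N i hi)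
        (hle (Submodule.mem_colon_singleton.2 (hpow _ (Ideal.pow_mem_pow ha _))))
      have : n = m := (Ideal.IsMaximal.eq_of_le inferInstance hn.ne_top hmn).symm
      exact s.2 (this ▸ hle (Submodule.mem_colon_singleton.2 hs))
    have h2 : (1 : R) ∈ J := h1 ▸ Submodule.mem_top
    simpa using Submodule.mem_colon_singleton.1 h2
  refine ⟨fun z hz hg' => ?_, fun i z hz hi => ?_⟩
  · refine (Submodule.mem_bot R).1 (back 0 hg' z ⊥ hz (fun c hc => hN' 0 hg' c hc z hz) ?_)
    have h := hfinal.1 (LocalizedModule.mk z 1) (by rw [dmk, hz, LocalizedModule.zero_mk]) hg'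
    rw [← LocalizedModule.zero_mk 1, LocalizedModule.mk_eq] at h
    obtain ⟨s, hs⟩ := h
    exact ⟨s, by simpa [Submonoid.smul_def] using hs⟩
  · refine back (i + 1) hi z _ hz (fun c hc => hN' (i + 1) hi c hc z hz) ?_
    obtain ⟨w, hw⟩ := hfinal.2 i (LocalizedModule.mk z 1) (by rw [dmk, hz, LocalizedModule.zero_mk]) hi
    induction w using LocalizedModule.induction_on with
    | _ x s =>
    rw [dmk, LocalizedModule.mk_eq] at hw
    obtain ⟨t, ht⟩ := hw
    refine ⟨t * s, (t : R) • x, ?_⟩
    rw [map_smul]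
    simpa [Submonoid.smul_def, mul_smul] using ht

end Groth.Agent.AbTI73
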