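import Groth.Agent.AbTI73.IndexField
import Groth.Agent.AbTI73.Tau
import Groth.Agent.KSchm95.Modules

/-!
Translation invariance over an arbitrary field, tested after a field extension.
-/

set_option autoImplicit false
set_option maxSynthPendingDepth 6
set_option linter.style.haveILetI false
set_option backward.isDefEq.respectTransparency.types false
universe u

open CategoryTheory CategoryTheory.Limits MonoidalCategory CartesianMonoidalCategory MonObj AlgebraicGeometry
open TopologicalSpace

noncomputable section

namespace Groth.Agent.AbTI73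

open Ampl73 (Pts pt rT)
open AbSquare57 (pb pb_comp pb_cls pb_id)

variable {K : Type u} [Field K] (K' : Type u) [Field K'] [Algebra K K']

/-- The base change of a morphism, seen on classes. -/
theorem pb_bX_map {V X : Over (Spec (CommRingCat.of K))} (w : V ⟶ X) (c : AbSquare57.Pic X.left) :
    pb ((Over.pullback (bsMap K K')).map w).left (pb (bπ K' X) c) = pb (bπ K' V) (pb w.left c) := by
  rw [← pb_comp, ← pb_comp]
  congr 2
  exact pullback.lift_fst _ _ _

theorem bX_map_pow {V X : Over (Spec (CommRingCat.of K))} [GrpObj X] (w : V ⟶ X) (n : ℕ) :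
    (Over.pullback (bsMap K K')).map (w ^ n) = (Over.pullback (bsMap K K')).map w ^ n :=
  map_pow ((Over.pullback (bsMap K K')).homMonoidHom (X := V) (M := X)) w n

/-- A class over a proper scheme which becomes trivial after a field extension is trivial. -/
theorem eq_one_of_pb_bX_eq_one {V : Over (Spec (CommRingCat.of K))} [IsProper V.hom] {a : AbSquare57.Pic V.left}
    (h : pb (bπ K' V) a = 1) : a = 1 := by
  haveI : IsLocallyNoetherian V.left := LocallyOfFiniteType.isLocallyNoetherian V.hom
  obtain ⟨M, hM, rfl⟩ := PicGrp.exists_eq_cls a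
  have hO : PicF.IsInvertible (Coh.structureModule V.left) := PicLoc.isInvertible_structureModule _
  rw [pb_cls, ← map_one (pb (bπ K' V)), ← PicGrp.cls_structureModule_eq_one, pb_cls, PicGrp.cls_eq_cls_iff] at h
  obtain ⟨e⟩ := h
  rw [← PicGrp.cls_structureModule_eq_one, PicGrp.cls_eq_cls_iff]
  exact KSchm95.nonempty_iso_of_bc V.hom K' (Amp73.isCoh_of_isInvertible hM) (Amp73.isCoh_of_isInvertible hO) e

variable {X : Over (Spec (CommRingCat.of K))} [GrpObj X] [IsProper X.hom] [GeometricallyIntegral X.hom]

/-- A class is translation invariant geometrically exactly when its Mumford class is trivial. -/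
theorem lam_eq_one_of_isTI_bX [IsAlgClosed K'] (c : AbSquare57.Pic X.left)
    (h : IsTI (A := bX K' X) (pb (bπ K' X) c)) : lam c = 1 := by
  haveI := isProper_bX K' X
  haveI := geometricallyIntegral_bX K' X
  haveI : IsProper (X ⊗ X).hom := inferInstanceAs (IsProper (pullback.fst X.hom X.hom ≫ X.hom))
  refine eq_one_of_pb_bX_eq_one K' ?_
  let F := Over.pullback (bsMap K K')
  have h1 := pb_lift_lam (A := bX K' X) (pb (bπ K' X) c) (F.map (fst X X)) (F.map (snd X X))
  rw [(isTI_iff_lam _).1 h, map_one, ← Functor.map_mul F, pb_bX_map, pb_bX_map, pb_bX_map] at h1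
  rw [lam, map_div, map_mul]
  exact h1.symm

end Groth.Agent.AbTI73

end

noncomputable section

namespace Groth.Agent.AbTI73

open Ampl73 (Pts pt rT)
open AbSquare57 (pb pb_comp pb_cls pb_id)

variable {K : Type u} [Field K] (K' : Type u) [Field K'] [Algebra K K']
  {X : Over (Spec (CommRingCat.of K))} [GrpObj X] [IsProper X.hom] [GeometricallyIntegral X.hom]

/-- A class with trivial Mumford class is translation invariant after a field extension. -/
theorem isTI_bX_of_lam_eq_one [IsAlgClosed K'] (c : AbSquare57.Pic X.left) (h : lam c = 1) :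
    IsTI (A := bX K' X) (pb (bπ K' X) c) := by
  haveI := isProper_bX K' X
  haveI := geometricallyIntegral_bX K' X
  let F := Over.pullback (bsMap K K')
  rw [lam, div_eq_one] at h
  have h1 : pb (F.map (fst X X) * F.map (snd X X)).left (pb (bπ K' X) c) =
      pb (F.map (fst X X)).left (pb (bπ K' X) c) * pb (F.map (snd X X)).left (pb (bπ K' X) c) := by
    rw [← Functor.map_mul F, pb_bX_map, pb_bX_map, pb_bX_map, ← map_mul]
    exact congrArg (pb _) h
  refine (isTI_iff_lam _).2 ?_
  rw [lam, div_eq_one]
  have h2 := congrArg (pb (Functor.LaxMonoidal.μ F X X).left) h1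
  have e : ∀ (u : F.obj (X ⊗ X) ⟶ F.obj X) (d : AbSquare57.Pic (F.obj X).left),
      pb (Functor.LaxMonoidal.μ F X X).left (pb u.left d) = pb (Functor.LaxMonoidal.μ F X X ≫ u).left d :=
    fun u d => by rw [Over.comp_left, pb_comp]
  rw [map_mul, e, e, e, MonObj.comp_mul, Functor.Monoidal.μ_fst, Functor.Monoidal.μ_snd] at h2
  exact h2

end Groth.Agent.AbTI73

end
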