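import Groth.Agent.Ampl73.Rigid
import Groth.Agent.ParaF26.Pair
import Groth.Agent.Serre71.HHLin
import Groth.Agent.EGA73.Tensor

/-!
An invertible module which, with its inverse, has a non-zero section is trivial.
-/

set_option autoImplicit false
set_option maxSynthPendingDepth 6
set_option linter.style.haveILetI false
set_option backward.isDefEq.respectTransparency.types false
universe u

open CategoryTheory CategoryTheory.Limits AlgebraicGeometry TopologicalSpace
open Groth.Agent.Var76.LineBundle (IsFrame)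

noncomputable section

namespace Groth.Agent.AbTI73

variable {X : Scheme.{u}}

theorem exists_hom_ne_zero {L : X.Modules} (h : ¬ Subsingleton (Coh.HH X L 0)) :
    ∃ s : Coh.structureModule X ⟶ L, s ≠ 0 := by
  by_contra hne
  push Not at hne
  refine h ((Serre71.hzero L).toEquiv.subsingleton_congr.2 ⟨fun a b => ?_⟩)
  exact (ParaF26.unitHom_bijective L).1 ((hne _).trans (hne _).symm)

theorem genLocus_nonempty [IsIntegral X] {L : X.Modules} (hL : PicF.IsInvertible L)
    {s : Coh.structureModule X ⟶ L} (hs : s ≠ 0) : (CohB1.genLocus L s : Set X).Nonempty := by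
  by_contra hne
  apply hs
  refine Scheme.Modules.hom_ext _ _ fun W => ?_
  ext c
  refine Var76.ZeroScheme.eq_of_locally L _ _ fun x hx => ?_
  obtain ⟨U, hxU, hUW, e, he⟩ := Mero90.exists_affine_frame hL x W hx
  refine ⟨U.1, hUW, hxU, ?_⟩
  obtain ⟨d, hd⟩ := Amp73.exists_coord s he
  have hbot : X.basicOpen d = ⊥ := by
    rw [← Amp73.genLocus_inf_eq_basicOpen s he hd, eq_bot_iff]
    exact fun y hy => hne ⟨y, hy.1⟩
  have : Nonempty U.1 := ⟨⟨x, hxU⟩⟩
  have hd0 : d = 0 := (basicOpen_eq_bot_iff d).1 hbot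
  rw [hd0, zero_smul] at hd
  refine (Mero90.app_res s hUW c).symm.trans ?_
  refine (Amp73.app_eq_smul_val s U.1 _).trans ?_
  rw [← hd, smul_zero]
  exact (map_zero _).symm

/-- Sections of a module and of its inverse trivialise it. -/
theorem iso_of_inverse_sections {k : Type u} [Field k] (p : X ⟶ Spec (CommRingCat.of k)) [IsProper p]
    [IsIntegral X] {L L' : X.Modules} (hL : PicF.IsInvertible L) (hL' : PicF.IsInvertible L')
    (e : CohB1.tensorMod L L' ≅ Coh.structureModule X)
    {s : Coh.structureModule X ⟶ L} (hs : s ≠ 0) {s' : Coh.structureModule X ⟶ L'} (hs' : s' ≠ 0) :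
    Nonempty (L ≅ Coh.structureModule X) := by
  let r : Coh.structureModule X ⟶ Coh.structureModule X := SecTwist.tmulHom s s' ≫ e.hom
  have hr : CohB1.genLocus _ r = CohB1.genLocus L s ⊓ CohB1.genLocus L' s' := by
    rw [Amp73.genLocus_comp_iso, Amp73.genLocus_tmulHom hL hL']
  obtain ⟨y, hy, hy'⟩ := nonempty_preirreducible_inter (CohB1.genLocus L s).isOpen (CohB1.genLocus L' s').isOpen
    (genLocus_nonempty hL hs) (genLocus_nonempty hL' hs')
  have h1 : IsFrame (Coh.structureModule X) (⊤ : X.Opens) (1 : Γ(X, ⊤)) := Amp73.isFrame_one ⊤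
  obtain ⟨d, hd⟩ := Amp73.exists_coord r h1
  have hg := Amp73.genLocus_inf_eq_basicOpen r h1 hd
  rw [inf_top_eq, hr] at hg
  have hd0 : d ≠ 0 := by
    rintro rfl
    rw [Scheme.basicOpen_zero] at hg
    exact hg.le ⟨hy, hy'⟩
  obtain ⟨b, hb⟩ := (isField_of_universallyClosed k p).mul_inv_cancel hd0
  rw [X.basicOpen_of_isUnit (IsUnit.of_mul_eq_one b hb)] at hg
  have htop : CohB1.genLocus L s = ⊤ := top_unique (hg.ge.trans inf_le_left)
  have : IsIso s := Amp73.isIso_of_frames s fun x => by
    refine ⟨⊤, (1 : Γ(X, ⊤)), trivial, Amp73.isFrame_one ⊤, ?_⟩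
    exact (Amp73.isFrame_iff_le_genLocus s ⊤).2 htop.ge
  exact ⟨(asIso s).symm⟩

end Groth.Agent.AbTI73
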