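import Groth.Agent.AbTI73.EulerPull
import Groth.Agent.AbTI73.Complement
import Groth.Agent.AbVanish7.IsoInv
import Groth.Agent.Ampl73.Points

/-!
The Euler characteristic of an inverse image along any finite flat morphism of abelian varieties.
-/

set_option autoImplicit false
set_option maxSynthPendingDepth 6
set_option linter.style.haveILetI false
set_option backward.isDefEq.respectTransparency.types false
universe u

open CategoryTheory CategoryTheory.Limits MonoidalCategory CartesianMonoidalCategory MonObj AlgebraicGeometry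
open TopologicalSpace

noncomputable section

namespace Groth.Agent.AbTI73

open Ampl73 (Pts pt rT)

theorem euler_pullback_iso {K : Type u} [Field K] {X Y : Scheme.{u}} [X.Over (Spec (CommRingCat.of K))]
    [Y.Over (Spec (CommRingCat.of K))] [IsProper (X ↘ Spec (CommRingCat.of K))]
    [IsProper (Y ↘ Spec (CommRingCat.of K))] (g : X ⟶ Y) [IsIso g]
    (hg : g ≫ (Y ↘ Spec (CommRingCat.of K)) = X ↘ Spec (CommRingCat.of K)) (F : Y.Modules) (hF : Coh.IsCoh F) :
    Curv2.euler K X ((Scheme.Modules.pullback g).obj F) = Curv2.euler K Y F := by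
  haveI := Crv77.isNoetherian_of_proper K X
  haveI := Crv77.isNoetherian_of_proper K Y
  haveI := AbVanish7.isIso_unit_pullback_of_isIso g F
  exact (CurveDeg75.euler_push_finite K g hg _ (ConsProp93.isCoh_pullback g hF)).symm.trans
    (Crv77.euler_congr (k := K) (asIso ((Scheme.Modules.pullbackPushforwardAdjunction g).unit.app F))).symm

variable {K : Type u} [Field K] {X Y : Over (Spec (CommRingCat.of K))} [GrpObj X] [GrpObj Y]
  [IsProper X.hom] [GeometricallyIntegral X.hom] [IsProper Y.hom] [GeometricallyIntegral Y.hom]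

/-- The Euler characteristic is multiplied by the degree. -/
theorem euler_pullback (f : X ⟶ Y) [IsFinite f.left] [Flat f.left] (d : ℕ)
    (hd : ∀ y : Y.left, f.left.finrank y = d) (F : Y.left.Modules) (hF : Coh.IsCoh F) :
    @Curv2.euler K _ X.left ⟨X.hom⟩ ((Scheme.Modules.pullback f.left).obj F) =
      (d : ℤ) * @Curv2.euler K _ Y.left ⟨Y.hom⟩ F := by
  letI : X.left.Over (Spec (CommRingCat.of K)) := ⟨X.hom⟩
  letI : Y.left.Over (Spec (CommRingCat.of K)) := ⟨Y.hom⟩
  haveI : IsProper (X.left ↘ Spec (CommRingCat.of K)) := ‹IsProper X.hom›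
  haveI : IsProper (Y.left ↘ Spec (CommRingCat.of K)) := ‹IsProper Y.hom›
  haveI : IsIntegral X.left := GeometricallyIntegral.isIntegral_of_subsingleton X.hom
  haveI : IsLocallyNoetherian Y.left := LocallyOfFiniteType.isLocallyNoetherian Y.hom
  let b : Pts Y := η[X] ≫ f
  let f₀ : X ⟶ Y := f ≫ rT b⁻¹
  have hf : f₀ ≫ rT b = f := by
    rw [Category.assoc, Ampl73.rT_comp_rT, _root_.inv_mul_cancel, Ampl73.rT_one, Category.comp_id]
  have h1 : η[X] ≫ f₀ = η[Y] := by
    show η[X] ≫ f ≫ rT b⁻¹ = η[Y]
    rw [← Category.assoc, Ampl73.comp_rT, toUnit_unique (toUnit _) (𝟙 _), Category.id_comp,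
      _root_.mul_inv_cancel, MonObj.one_eq_one]
  haveI := isMonHom_of_one f₀ h1
  haveI : IsFinite f₀.left := by rw [Over.comp_left]; infer_instance
  haveI : Flat f₀.left := by rw [Over.comp_left]; infer_instance
  have hsq : IsPullback (𝟙 X.left) f₀.left f.left (rT b).left :=
    IsPullback.of_horiz_isIso ⟨by rw [Category.id_comp, ← Over.comp_left, hf]⟩
  have hd' : ∀ y, f₀.left.finrank y = d := fun y => by
    rw [Scheme.Hom.finrank_of_isPullback _ _ _ _ hsq y, hd]
  have hd0 : 1 ≤ d := by
    let x := Classical.arbitrary X.left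
    calc 1 ≤ f.left.finrank (f.left x) := Scheme.Hom.one_le_finrank_map f.left x
      _ = d := hd _
  haveI : IsAffineHom (rT b).left := inferInstance
  have hG : Coh.IsCoh ((Scheme.Modules.pullback (rT b).left).obj F) := ConsProp93.isCoh_pullback _ hF
  rw [Crv77.euler_congr (k := K) ((Scheme.Modules.pullbackCongr (show f₀.left ≫ (rT b).left = f.left by
      rw [← Over.comp_left, hf])).symm.app F ≪≫ ((Scheme.Modules.pullbackComp f₀.left (rT b).left).app F).symm),
    Functor.comp_obj, euler_pullback_of_isMonHom f₀ d hd' hd0 _ hG, euler_pullback_iso (rT b).left (Over.w _) F hF]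

end Groth.Agent.AbTI73
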