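import Groth.Agent.AbTI73.IsogenyPull
import Groth.Agent.QC70.Devissage
import Groth.Agent.CurveDeg75.Pull
import Groth.Agent.KRR40.PnPullVanish
import Groth.Agent.FBase64.AssTensor.PullLength
import Groth.Agent.QCTens72.Basic
import Groth.Agent.TwTens96.Basic
import Groth.Agent.ConsProp93.Locus
import Groth.Agent.S18385

/-!
The Euler characteristic of an inverse image along an isogeny.
-/

set_option autoImplicit false
set_option maxSynthPendingDepth 6
set_option linter.style.haveILetI false
set_option backward.isDefEq.respectTransparency.types false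
universe u

open CategoryTheory CategoryTheory.Limits MonoidalCategory CartesianMonoidalCategory MonObj AlgebraicGeometry
open TopologicalSpace TensorProduct

noncomputable section

namespace Groth.Agent.AbTI73

/-- The stalk of a twist by a module free near the point. -/
theorem nonempty_stalk_tensor_free {Y : Scheme.{u}} (Q E : Y.Modules) [Q.IsQuasicoherent] [E.IsQuasicoherent]
    {d : ℕ} (hE : FlatMod.IsFinLocFreeOfRank d E) (y : Y) :
    Nonempty ((CohB1.tensorMod Q E).presheaf.stalk y ≃ₗ[Y.presheaf.stalk y] (Fin d → Q.presheaf.stalk y)) := by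
  obtain ⟨U, hy, ⟨e⟩⟩ := hE y
  obtain ⟨s, hs⟩ := Props58.LocFree.exists_stalkBasis_of_iso e
  obtain ⟨t⟩ := FBase64.AssTensor.nonempty_stalkTensorEquiv Q E y
  exact ⟨t.trans ((TensorProduct.congr (LinearEquiv.refl _ _) (hs.stalkEquiv y hy).symm).trans
    (TensorProduct.piScalarRight (Y.presheaf.stalk y) (Y.presheaf.stalk y) (Q.presheaf.stalk y) (Fin d)))⟩

variable {K : Type u} [Field K] {X Y : Over (Spec (CommRingCat.of K))} [GrpObj X] [GrpObj Y]
  [IsProper X.hom] [GeometricallyIntegral X.hom] [IsProper Y.hom]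

/-- The Euler characteristic is multiplied by the degree. -/
theorem euler_pullback_of_isMonHom (f : X ⟶ Y) [IsMonHom f] [IsFinite f.left] [Flat f.left]
    [LocallyOfFinitePresentation f.left] (d : ℕ) (hd : ∀ y : Y.left, f.left.finrank y = d) (hd0 : 1 ≤ d)
    (F : Y.left.Modules) (hF : Coh.IsCoh F) :
    @Curv2.euler K _ X.left ⟨X.hom⟩ ((Scheme.Modules.pullback f.left).obj F) =
      (d : ℤ) * @Curv2.euler K _ Y.left ⟨Y.hom⟩ F := by
  letI : X.left.Over (Spec (CommRingCat.of K)) := ⟨X.hom⟩
  letI : Y.left.Over (Spec (CommRingCat.of K)) := ⟨Y.hom⟩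
  haveI : IsProper (X.left ↘ Spec (CommRingCat.of K)) := ‹IsProper X.hom›
  haveI : IsProper (Y.left ↘ Spec (CommRingCat.of K)) := ‹IsProper Y.hom›
  haveI := Crv77.isNoetherian_of_proper K Y.left
  haveI := Crv77.isNoetherian_of_proper K X.left
  let p := f.left
  let E := (Coh.push p).obj (Coh.structureModule X.left)
  have hE : FlatMod.IsFinLocFreeOfRank d E := isFinLocFreeOfRank_push p d hd
  have hEc : Coh.IsCoh E := QC70.isCoh_pushforward_of_isFinite p _ QC70.isCoh_unit
  haveI := hEc.1
  haveI := hEc.2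
  obtain ⟨efree⟩ := nonempty_pullback_push_free f d hd
  have hpc : ∀ M : Y.left.Modules, Coh.IsCoh M → Coh.IsCoh ((Scheme.Modules.pullback p).obj M) := fun M hM =>
    ConsProp93.isCoh_pullback p hM
  let ε : Y.left.Modules → ℤ := fun M =>
    Curv2.euler K X.left ((Scheme.Modules.pullback p).obj M) - (d : ℤ) * Curv2.euler K Y.left M
  let P : Y.left.Modules → Prop := fun M => ε M = 0
  have hiso : ∀ M N : Y.left.Modules, Nonempty (M ≅ N) → P M → P N := fun M N ⟨e⟩ h => by
    show _ - _ = (0 : ℤ)
    rw [← Crv77.euler_congr (k := K) ((Scheme.Modules.pullback p).mapIso e), ← Crv77.euler_congr (k := K) e]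
    exact h
  have hadd : ∀ S : ShortComplex Y.left.Modules, S.ShortExact → Coh.IsCoh S.X₁ → Coh.IsCoh S.X₂ →
      Coh.IsCoh S.X₃ → ε S.X₂ = ε S.X₁ + ε S.X₃ := fun S hS h₁ h₂ h₃ => by
    have h := Snapper75.euler_add K (KRR40.shortExact_pullback_of_flat p hS) (hpc _ h₁) (hpc _ h₂) (hpc _ h₃)
    simp only [ShortComplex.map_X₁, ShortComplex.map_X₂, ShortComplex.map_X₃] at h
    simp only [ε, h, Snapper75.euler_add K hS h₁ h₂ h₃]
    ring
  have h0 : ∀ M : Y.left.Modules, IsZero M → P M := fun M hM => by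
    show _ - _ = (0 : ℤ)
    rw [Snapper75.euler_eq_zero_of_isZero K hM,
      Snapper75.euler_eq_zero_of_isZero K ((Scheme.Modules.pullback p).map_isZero hM), mul_zero, sub_zero]
  haveI : PreservesColimitsOfSize.{0, 0} (Scheme.Modules.pullback p) :=
    (Scheme.Modules.pullbackPushforwardAdjunction p).leftAdjoint_preservesColimits
  have hsig : ∀ (M : Y.left.Modules) (r : ℕ), Coh.IsCoh M → ε (∐ fun _ : Fin r => M) = r * ε M := fun M r hM => by
    let i : (Scheme.Modules.pullback p).obj (∐ fun _ : Fin r => M) ≅ ⨁ fun _ : Fin r => (Scheme.Modules.pullback p).obj M :=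
      PreservesCoproduct.iso _ _ ≪≫ (biproduct.isoCoproduct _).symm
    simp only [ε]
    rw [Crv77.euler_congr (k := K) i, Snapper75.euler_coproduct K (hpc _ hM),
      Crv77.euler_congr (k := K) (biproduct.isoCoproduct fun _ : Fin r => M).symm, Snapper75.euler_coproduct K hM]
    ring
  suffices h : P F by exact sub_eq_zero.1 h
  refine QC70.devissage P hiso h0
    (fun S hS h₁ h₂ h₃ p₁ p₃ => by show ε S.X₂ = 0; rw [hadd S hS h₁ h₂ h₃, p₁, p₃, add_zero])
    (fun M r hM hr h => (mul_eq_zero.1 ((hsig M r hM).symm.trans h)).resolve_left (by exact_mod_cast (by omega : r ≠ 0)))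
    (CohB1.support F) (haveI := hF.1; haveI := hF.2; QC70.isClosed_support F) (fun y _ IH => ?_) F hF subset_rfl
  let C : Closeds Y.left := ⟨closure {y}, isClosed_closure⟩
  let I := Scheme.IdealSheafData.vanishingIdeal C
  have hI : (I.support : Set Y.left) = closure {y} := Scheme.IdealSheafData.coe_support_vanishingIdeal C
  have hO : Coh.IsCoh (Coh.structureModule Y.left) := QC70.isCoh_unit
  haveI := hO.1
  let Q := (QC70.quotSC I (Coh.structureModule Y.left)).X₃
  have hQ : Coh.IsCoh Q := QC70.isCoh_quot I hO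
  haveI := hQ.1
  haveI := hQ.2
  have hQy : y ∈ CohB1.support Q := CohSerre72.mem_support_quot I hO (hI.ge (subset_closure rfl))
    (not_subsingleton_iff_nontrivial.2 (QC70.nontrivial_stalk_unit y))
  have hQsupp : CohB1.support Q ⊆ closure {y} := (QC70.support_quot_subset_right I _).trans hI.le
  let G := CohB1.tensorMod Q E
  have hG : Coh.IsCoh G := Amp73.isCoh_tensorMod hQ hEc
  haveI := hG.1
  haveI := hG.2
  obtain ⟨st⟩ := nonempty_stalk_tensor_free Q E hE y
  have hGsupp : CohB1.support G ⊆ closure {y} := by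
    rw [QCTens72.support_tensorMod (F := Q) (G := E)]
    exact Set.inter_subset_left.trans hQsupp
  -- the twist by the direct image of the structure sheaf is a direct image
  have hPG : P G := by
    let M := (Scheme.Modules.pullback p).obj Q
    have hM : Coh.IsCoh M := hpc _ hQ
    haveI : (Coh.structureModule X.left).IsQuasicoherent := (QC70.isCoh_unit (X := X.left)).1
    have hproj := FMK72.isIso_projNat_app p Q (Coh.structureModule X.left)
    let e₁ : G ≅ (Coh.push p).obj M :=
      EGA73.tensComm _ _ ≪≫ @asIso _ _ _ _ ((FMK72.projNat p Q).app (Coh.structureModule X.left)) hproj ≪≫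
        (Coh.push p).mapIso (EGA73.tensUnitLeft M)
    let e₂ : (Scheme.Modules.pullback p).obj G ≅ ⨁ fun _ : Fin d => M :=
      TwTens96.pullTensIso p Q E ≪≫ EGA73.tensIso (Iso.refl _) efree ≪≫ EGA73.tensComm _ _ ≪≫
        (VB30.nonempty_tensor_sigma (fun _ : Fin d => Coh.structureModule X.left) M).some ≪≫
        Sigma.mapIso (fun _ => EGA73.tensUnitLeft M) ≪≫ (biproduct.isoCoproduct _).symm
    show _ - _ = (0 : ℤ)
    rw [Crv77.euler_congr (k := K) e₂, Snapper75.euler_coproduct K hM, Crv77.euler_congr (k := K) e₁,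
      CurveDeg75.euler_push_finite K p (Over.w f) M hM, sub_self]
  refine ⟨G, hG, ?_, fun a ha m => st.injective ?_, fun J hJ => ?_⟩
  · haveI : Nontrivial (Q.presheaf.stalk y) := not_subsingleton_iff_nontrivial.1 hQy
    haveI : Nonempty (Fin d) := ⟨⟨0, hd0⟩⟩
    exact st.toEquiv.nontrivial
  · rw [map_smul, map_zero]
    funext i
    exact QC70.stalk_killed (Y := C) rfl (fun W b hb t => QC70.smul_quot_eq_zero I _ W hb t) a ha _
  · refine ⟨_, 𝟙 _, inferInstance, QC70.isCoh_idealMul J hG, ?_, ?_⟩
    · rw [Category.id_comp]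
      exact QC70.bijective_stalk_idealMulι J _ hJ
    · have hq : P (QC70.quotSC J G).X₃ := IH _ (QC70.isCoh_quot J hG)
        ((QC70.support_quot_subset_left J G).trans hGsupp) fun h => hJ (QC70.support_quot_subset_right J G h)
      have h := hadd _ (QC70.quotSC_shortExact J G) (QC70.isCoh_idealMul J hG) hG (QC70.isCoh_quot J hG)
      rw [show ε (QC70.quotSC J G).X₃ = 0 from hq, show ε (QC70.quotSC J G).X₂ = 0 from hPG, add_zero] at h
      exact h.symm

end Groth.Agent.AbTI73
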