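import Groth.Agent.AbTI73.Basic
import Groth.Agent.AbDeg57.FinPow

/-!
An ample class is fixed by finitely many translations only.
-/

set_option autoImplicit false
set_option maxSynthPendingDepth 6
set_option backward.isDefEq.respectTransparency.types false
universe u

open CategoryTheory CategoryTheory.Limits MonoidalCategory CartesianMonoidalCategory MonObj AlgebraicGeometry
open TopologicalSpace

noncomputable section

namespace Groth.Agent.AbTI73

open Ampl73 (Pts pt rT)
open AbSquare57 (pb pb_comp pb_cls pb_id)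

variable {K : Type u} [Field K] [IsAlgClosed K] {A : Over (Spec (CommRingCat.of K))} [GrpObj A] [IsProper A.hom]
  [GeometricallyIntegral A.hom]

omit [IsAlgClosed K] [IsProper A.hom] [GeometricallyIntegral A.hom] in
/-- An integral closed subscheme on which an ample class and its reflection cancel is a point. -/
theorem subsingleton_of_reflect {FX : Over (Spec (CommRingCat.of K))} [IsProper FX.hom] [IsIntegral FX.left]
    (j : FX ⟶ A) [IsClosedImmersion j.left] {L : A.left.Modules} (hL : CohB1.IsAmple L)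
    (h : pb (j⁻¹ : FX ⟶ A).left (PicGrp.cls L hL.1) * pb j.left (PicGrp.cls L hL.1) = 1) :
    Subsingleton FX.left := by
  have hc : IsClosedImmersion (j⁻¹ : FX ⟶ A).left := by
    have : IsIso ((𝟙 A)⁻¹ : A ⟶ A).left := AbDeg57.isIso_inv_left (A := A)
    rw [show (j⁻¹ : FX ⟶ A) = j ≫ (𝟙 A)⁻¹ by rw [GrpObj.comp_inv, Category.comp_id], Over.comp_left]
    infer_instance
  have h1 := Amp73.isAmple_pullback (j⁻¹ : FX ⟶ A).left (Amp73.isQuasiAffine_of_isAffineHom _) hL
  have h2 := Amp73.isAmple_pullback j.left (Amp73.isQuasiAffine_of_isAffineHom _) hL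
  have h12 := Amp73.isAmple_tensor_ample h1 h2
  rw [pb_cls, pb_cls, PicGrp.cls_mul_cls_eq_one_iff] at h
  obtain ⟨e⟩ := h
  have hO := Amp73.isAmple_of_iso e h12
  have hqa := Amp73.isQuasiAffine_of_isAmple hO
  have : IsFinite FX.hom := AbDeg57.isFinite_of_isProper_of_isQuasiAffine K FX.hom
  have : IsAffine FX.left := isAffine_of_isAffineHom FX.hom
  have : Unique (PrimeSpectrum Γ(FX.left, ⊤)) :=
    @PrimeSpectrum.instUnique _ (isField_of_universallyClosed K FX.hom).toField
  have : Subsingleton (Spec Γ(FX.left, ⊤)) := inferInstanceAs (Subsingleton (PrimeSpectrum Γ(FX.left, ⊤)))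
  exact FX.left.isoSpec.hom.homeomorph.injective.subsingleton

theorem finite_fixing {L : A.left.Modules} (hL : CohB1.IsAmple L) :
    {a : Pts A | pb (rT a).left (PicGrp.cls L hL.1) = PicGrp.cls L hL.1}.Finite := by
  set c := PicGrp.cls L hL.1
  by_contra hinf
  obtain ⟨Z, hZ, hZa⟩ := exists_closed_fixing c
  have hinf' : (Z : Set A.left).Infinite := fun hfin => hinf (by
    have hsub : pt '' {a : Pts A | pb (rT a).left c = c} ⊆ Z := ?_
    · exact (hfin.subset hsub).of_finite_image Ampl73.pt_injective.injOn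
    rintro _ ⟨a, ha, rfl⟩
    exact (hZa a).2 ha)
  have : IsLocallyNoetherian A.left := LocallyOfFiniteType.isLocallyNoetherian A.hom
  have : CompactSpace A.left := QuasiCompact.compactSpace_of_compactSpace A.hom
  have : AlgebraicGeometry.IsNoetherian A.left := {}
  obtain ⟨S, hSfin, hSc, hS, hSeq⟩ := NoetherianSpace.exists_finite_set_isClosed_irreducible hZ
  obtain ⟨F, hFS, hFinf⟩ : ∃ F ∈ S, F.Infinite := by
    by_contra hh
    push Not at hh
    rw [hSeq, Set.sUnion_eq_biUnion] at hinf'
    exact hinf' (hSfin.biUnion fun F hF => hh F hF)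
  let F' : Closeds A.left := ⟨F, hSc F hFS⟩
  let iF := (Scheme.IdealSheafData.vanishingIdeal F').subschemeι
  have hrange : Set.range iF = F := by
    rw [Scheme.IdealSheafData.range_subschemeι, Scheme.IdealSheafData.coe_support_vanishingIdeal]; rfl
  let FX : Over (Spec (CommRingCat.of K)) := Over.mk (iF ≫ A.hom)
  let j₀ : FX ⟶ A := Over.homMk iF rfl
  have hint' : IsIntegral FX.left := Curves2.isIntegral_vanishingIdeal F' (hS F hFS)
  have : IsProper FX.hom := inferInstanceAs (IsProper (iF ≫ A.hom))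
  have : JacobsonSpace FX.left := LocallyOfFiniteType.jacobsonSpace FX.hom
  obtain ⟨x, -, hx⟩ := nonempty_inter_closedPoints (Z := (Set.univ : Set FX.left))
    ⟨Classical.arbitrary _, trivial⟩ isClosed_univ.isLocallyClosed
  obtain ⟨σ₀, -⟩ := Ampl73.exists_pt (A := FX) x hx
  have hfix : ∀ σ : Pts FX, pb (rT (σ ≫ j₀)).left c = c := fun σ => by
    rw [← hZa, hSeq]
    refine ⟨F, hFS, hrange ▸ ⟨pt σ, ?_⟩⟩
    show iF (pt σ) = (σ ≫ j₀).left (IsLocalRing.closedPoint K)
    rw [Over.comp_left, Scheme.Hom.comp_apply]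
    rfl
  -- the translate through the unit
  let j : FX ⟶ A := j₀ ≫ rT (σ₀ ≫ j₀)⁻¹
  have : IsClosedImmersion j.left := by
    rw [Over.comp_left]
    exact inferInstanceAs (IsClosedImmersion (iF ≫ (rT (σ₀ ≫ j₀)⁻¹).left))
  have hfix' : ∀ σ : Pts FX, phi c (σ ≫ j) = 1 := fun σ => by
    show phi c (σ ≫ (j₀ ≫ rT (σ₀ ≫ j₀)⁻¹)) = 1
    rw [← Category.assoc, Ampl73.pts_comp_rT, phi_mul]
    have e : ∀ b : Pts A, pb (rT b).left c = c → phi c b = 1 := fun b hb => by rw [phi, hb, div_self']
    rw [e _ (hfix σ), _root_.one_mul]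
    have h3 := phi_mul c (σ₀ ≫ j₀) (σ₀ ≫ j₀)⁻¹
    rw [_root_.mul_inv_cancel, phi_one, e _ (hfix σ₀), _root_.one_mul] at h3
    exact h3.symm
  obtain ⟨d, hd⟩ := eq_pullback_of_slices (X := A) (T := FX)
    (pb (CartesianMonoidalCategory.lift (fst A FX) (snd A FX ≫ j)).left (lam c)) fun σ => by
      rw [← pb_comp, ← Over.comp_left, CartesianMonoidalCategory.comp_lift, slice_fst, ← Category.assoc,
        slice_snd, Category.assoc, ← slice_eq_lift, pb_slice_lam, hfix']
  have hd1 : d = 1 := by
    have h1 := congrArg (pb (CartesianMonoidalCategory.lift (1 : FX ⟶ A) (𝟙 FX)).left) hd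
    rw [← pb_comp, ← pb_comp, ← Over.comp_left, ← Over.comp_left, CartesianMonoidalCategory.comp_lift, lift_fst,
      lift_snd, ← Category.assoc, lift_snd, Category.id_comp, Over.id_left, pb_id, pb_lift_lam, _root_.one_mul,
      AbSquare57.pb_one, _root_.one_mul, div_self'] at h1
    exact h1.symm
  rw [hd1, map_one] at hd
  have h1 := congrArg (pb (CartesianMonoidalCategory.lift (j⁻¹ : FX ⟶ A) (𝟙 FX)).left) hd
  rw [map_one, ← pb_comp, ← Over.comp_left, CartesianMonoidalCategory.comp_lift, lift_fst, ← Category.assoc,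
    lift_snd, Category.id_comp, pb_lift_lam, _root_.inv_mul_cancel, AbSquare57.pb_one, one_div, inv_eq_one] at h1
  have hsub := subsingleton_of_reflect j hL h1
  have : Finite (Scheme.IdealSheafData.vanishingIdeal F').subscheme := @Finite.of_subsingleton _ hsub
  exact hFinf (hrange ▸ (Set.finite_range iF))

end Groth.Agent.AbTI73
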