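import Groth.Agent.AbTI73.Seesaw
import Groth.Agent.Crv77.FiniteSupp
import Groth.Agent.GSS45.SchemeSS
import Groth.Agent.S0494
import Groth.Agent.S2385
import Groth.Agent.S2390
import Groth.Agent.S11319
import Groth.Agent.Serre71.HHLin
import Groth.Agent.ASB64.SBHorrocks
import Groth.Agent.Cube73.Semicont
import Groth.Agent.Props58.LocFree.Basis

/-!
Families over a proper parameter space whose members have no cohomology.
-/

set_option autoImplicit false
set_option linter.style.haveILetI false
set_option maxSynthPendingDepth 6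
set_option backward.isDefEq.respectTransparency.types false
universe u

open CategoryTheory CategoryTheory.Limits MonoidalCategory CartesianMonoidalCategory AlgebraicGeometry
open TopologicalSpace Opposite

noncomputable section

namespace Groth.Agent.AbTI73

open Ampl73 (Pts pt)

section Supp

variable {Y : Scheme.{u}}

theorem subsingleton_sections_of_isZero_restrict (M : Y.Modules) {U W : Y.Opens} (hW : W ≤ U)
    (h : IsZero (M.restrict U.ι)) : Subsingleton Γ(M, W) := by
  haveI : Subsingleton Γ(M, U.ι ''ᵁ (U.ι ⁻¹ᵁ W)) :=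
    Mum71.subsingleton_of_isZero' (V := U.ι ⁻¹ᵁ W) (M.restrict U.ι) h
  have e : U.ι ''ᵁ (U.ι ⁻¹ᵁ W) = W := by
    rw [Scheme.Hom.image_preimage_eq_opensRange_inf, Scheme.Opens.opensRange_ι, inf_eq_right]
    exact hW
  rwa [e] at this

theorem suppIn_of_nhds (M : Y.Modules) (S : Set Y)
    (h : ∀ y, y ∉ S → ∃ U : Y.Opens, y ∈ U ∧ IsZero (M.restrict U.ι)) : Crv77.SuppIn M S := fun y hy => by
  obtain ⟨U, hyU, hU⟩ := h y hy
  refine subsingleton_of_forall_eq 0 fun a => ?_
  obtain ⟨W, hyW, s, rfl⟩ := TopCat.Presheaf.exists_germ_eq M.presheaf a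
  have hs := (subsingleton_sections_of_isZero_restrict M (inf_le_right (a := W)) hU).elim
    (M.presheaf.map (homOfLE (inf_le_left : W ⊓ U ≤ W)).op s) 0
  rw [← TopCat.Presheaf.germ_res_apply M.presheaf (homOfLE (inf_le_left : W ⊓ U ≤ W)) y ⟨hyW, hyU⟩ s]
  exact (congrArg _ hs).trans (map_zero _)

theorem isZero_of_suppIn {M : Y.Modules} {S : Set Y} (hM : Crv77.SuppIn M S) (hS : S.Finite)
    (hcl : ∀ x ∈ S, IsClosed ({x} : Set Y)) (h : Subsingleton Γ(M, ⊤)) : IsZero M := by
  rw [IsZero.iff_id_eq_zero]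
  ext O (s : Γ(M, O))
  show s = 0
  obtain ⟨t, rfl⟩ := hM.surjective_res hS hcl (le_top : O ≤ ⊤) s
  rw [Subsingleton.elim t 0]
  exact map_zero _

end Supp

theorem subsingleton_H_of_iso {Y : TopCat.{u}} {F G : CohTop.Ab Y} (e : F ≅ G) (n : ℕ)
    (h : Subsingleton (Sheaf.H F n)) : Subsingleton (Sheaf.H G n) := by
  refine subsingleton_of_forall_eq 0 fun x => ?_
  have hx : x = Sheaf.H.map e.hom n (Sheaf.H.map e.inv n x) := by
    simp [Sheaf.H.map]
  rw [hx, Subsingleton.elim (Sheaf.H.map e.inv n x) 0, map_zero]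

theorem eq_zero_of_isZero_freeMod {X : Scheme.{u}} [Nonempty X] {n : ℕ} (h : IsZero (FlatMod.freeMod X n)) : n = 0 := by
  by_contra hn
  have hs := Mum71.subsingleton_of_isZero' (V := (⊤ : X.Opens)) (FlatMod.freeMod X n) h
  have e := Props58.LocFree.free_eq_of_comb (X := X) (n := n) (W := ⊤) (a := 1) (b := 0) (Subsingleton.elim _ _)
  haveI : Nonempty (⊤ : X.Opens) := ⟨⟨Classical.arbitrary X, trivial⟩⟩
  exact one_ne_zero (α := Γ(X, ⊤)) (congrFun e ⟨0, Nat.pos_of_ne_zero hn⟩)

section Leray

variable {X Y : Scheme.{u}} (f : X ⟶ Y) [HasInjectiveResolutions X.Modules] (F : X.Modules)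

/-- Higher direct images supported in finitely many closed points compute the cohomology. -/
theorem subsingleton_hh_iff_of_suppIn {S : Set Y} (hS : S.Finite) (hcl : ∀ x ∈ S, IsClosed ({x} : Set Y))
    (hM : ∀ q, Crv77.SuppIn ((Coh.Rpush f q).obj F) S) (q : ℕ) :
    Subsingleton (Coh.HH X F q) ↔ Subsingleton Γ((Coh.Rpush f q).obj F, ⊤) := by
  have h : ∀ p r : ℕ, Subsingleton (CohTop.H ((CohTop.Rpush f.base r).obj (Coh.toAb F)) (p + 1)) := fun p r => by
    obtain ⟨e⟩ := S11319.result f F r
    haveI := (hM r).subsingleton_HH hS hcl p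
    exact subsingleton_H_of_iso e (p + 1) inferInstance
  obtain ⟨e⟩ := S0494.result f.base (Coh.toAb F) h q
  obtain ⟨e'⟩ := S11319.result f F q
  let e'' := ((sheafSections (Opens.grothendieckTopology Y) AddCommGrpCat.{u}).obj (op ⊤)).mapIso e'
  exact (e.toEquiv.trans e''.symm.addCommGroupIsoToAddEquiv.toEquiv).subsingleton_congr

end Leray

variable {K : Type u} [Field K] [IsAlgClosed K] {X T : Over (Spec (CommRingCat.of K))}
  [IsProper X.hom] [GeometricallyIntegral X.hom] [IsProper T.hom]

/-- all the cohomology of a member vanishes -/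
def SliceVan (L : (X ⊗ T).left.Modules) (τ : Pts T) : Prop :=
  ∀ q : ℕ, Subsingleton (Coh.HH X.left ((Scheme.Modules.pullback (slice X τ).left).obj L) q)

omit [IsProper X.hom] [GeometricallyIntegral X.hom] in
theorem fiberH_subsingleton_iff {L : (X ⊗ T).left.Modules} (hL : PicF.IsInvertible L) (τ : Pts T) (q : ℕ) :
    Subsingleton (CohIII.fiberH (snd X T).left L (pt τ) q) ↔
      Subsingleton (Coh.HH X.left ((Scheme.Modules.pullback (slice X τ).left).obj L) q) := by
  obtain ⟨r, hi, hr⟩ := exists_fibre_iso (X := X) τ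
  let N := (Scheme.Modules.pullback ((snd X T).left.fiberι (pt τ))).obj L
  have hN : PicF.IsInvertible N := PicLoc.isInvertible_pullback _ hL
  haveI : N.IsQuasicoherent := (Amp73.isCoh_of_isInvertible hN).1
  refine (ASB64.subsingleton_hh_pullback_iso r N q).symm.trans ?_
  let e : (Scheme.Modules.pullback r).obj N ≅ (Scheme.Modules.pullback (slice X τ).left).obj L :=
    (Scheme.Modules.pullbackComp r _).app L ≪≫ (Scheme.Modules.pullbackCongr hr).app L
  exact ⟨fun h => ValVan29.subsingleton_hh_of_iso e q h, fun h => ValVan29.subsingleton_hh_of_iso e.symm q h⟩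

variable [HasInjectiveResolutions (X ⊗ T).left.Modules]

omit [GeometricallyIntegral X.hom] in
/-- The higher direct images are supported where some member has cohomology. -/
theorem exists_suppIn {L : (X ⊗ T).left.Modules} (hL : PicF.IsInvertible L) {S₀ : Set (Pts T)} (hS₀ : S₀.Finite)
    (q : ℕ) (h : ∀ τ ∉ S₀, Subsingleton (Coh.HH X.left ((Scheme.Modules.pullback (slice X τ).left).obj L) q)) :
    Crv77.SuppIn ((Coh.Rpush (snd X T).left q).obj L) (pt '' S₀) := by
  let π : (X ⊗ T).left ⟶ T.left := (snd X T).left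
  have : IsProper π := inferInstanceAs (IsProper (pullback.snd X.hom T.hom))
  have : Flat π := inferInstanceAs (Flat (pullback.snd X.hom T.hom))
  have : IsLocallyNoetherian T.left := LocallyOfFiniteType.isLocallyNoetherian T.hom
  have : JacobsonSpace T.left := LocallyOfFiniteType.jacobsonSpace T.hom
  let R := (Coh.Rpush π q).obj L
  let Z : Set T.left := {y | ∀ U : T.left.Opens, y ∈ U → ¬ IsZero (R.restrict U.ι)}
  have hZ : IsClosed Z := by
    rw [← isOpen_compl_iff, isOpen_iff_forall_mem_open]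
    intro y hy
    simp only [Z, Set.mem_compl_iff, Set.mem_ofPred_eq, not_forall, not_not] at hy
    obtain ⟨U, hyU, hU⟩ := hy
    exact ⟨U, fun z hz hzZ => hzZ U hz hU, U.isOpen, hyU⟩
  have hcl : Z ∩ closedPoints T.left ⊆ pt '' S₀ := by
    rintro y ⟨hyZ, hyc⟩
    obtain ⟨τ, rfl⟩ := Ampl73.exists_pt (A := T) y hyc
    by_contra hns
    have hv := (fiberH_subsingleton_iff hL τ q).2 (h τ (fun hτ => hns ⟨τ, hτ, rfl⟩))
    obtain ⟨U, hU, hz⟩ := S2385.result π L (Amp73.isCoh_of_isInvertible hL)
      (Cube7.isFlatOver_of_isInvertible π hL) _ q hv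
    exact hyZ U hU hz
  refine suppIn_of_nhds R _ fun y hy => ?_
  by_contra hne
  push Not at hne
  refine hy ?_
  have hfin : IsClosed (pt '' S₀) := by
    rw [← Set.biUnion_of_singleton (pt '' S₀)]
    exact (hS₀.image pt).isClosed_biUnion (by rintro _ ⟨τ, -, rfl⟩; exact Ampl73.isClosed_pt τ)
  exact closure_minimal hcl hfin (by rw [JacobsonSpace.closure_inter_closedPoints hZ]; exact hne)

omit [GeometricallyIntegral X.hom] in
/-- If all members have no cohomology, neither has the family. -/
theorem subsingleton_hh_of_forall_sliceVan {L : (X ⊗ T).left.Modules} (hL : PicF.IsInvertible L)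
    (h : ∀ τ, SliceVan L τ) (q : ℕ) : Subsingleton (Coh.HH (X ⊗ T).left L q) := by
  have hs := fun q => exists_suppIn hL Set.finite_empty q (fun τ _ => h τ q)
  simp only [Set.image_empty] at hs
  rw [subsingleton_hh_iff_of_suppIn (snd X T).left L Set.finite_empty (by simp) hs q]
  exact subsingleton_of_forall_eq 0 fun s => (hs q).section_eq_zero (V := ⊤) (fun x _ => Set.notMem_empty x) s

omit [GeometricallyIntegral X.hom] in
/-- A family without cohomology whose members have none outside a finite set: all members have none in degree zero. -/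
theorem subsingleton_slice_zero {L : (X ⊗ T).left.Modules} (hL : PicF.IsInvertible L) {S₀ : Set (Pts T)}
    (hS₀ : S₀.Finite) (h : ∀ τ ∉ S₀, SliceVan L τ) (h0 : ∀ q, Subsingleton (Coh.HH (X ⊗ T).left L q)) (τ : Pts T) :
    Subsingleton (Coh.HH X.left ((Scheme.Modules.pullback (slice X τ).left).obj L) 0) := by
  let π : (X ⊗ T).left ⟶ T.left := (snd X T).left
  have : IsProper π := inferInstanceAs (IsProper (pullback.snd X.hom T.hom))
  have : Flat π := inferInstanceAs (Flat (pullback.snd X.hom T.hom))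
  have : IsLocallyNoetherian T.left := LocallyOfFiniteType.isLocallyNoetherian T.hom
  have hs := fun q => exists_suppIn hL hS₀ q (fun τ hτ => h τ hτ q)
  have hcl : ∀ x ∈ pt '' S₀, IsClosed ({x} : Set T.left) := by
    rintro _ ⟨σ, -, rfl⟩; exact Ampl73.isClosed_pt σ
  have hR : ∀ q, IsZero ((Coh.Rpush π q).obj L) := fun q =>
    isZero_of_suppIn (hs q) (hS₀.image pt) hcl
      ((subsingleton_hh_iff_of_suppIn π L (hS₀.image pt) hcl hs q).1 (h0 q))
  have hcoh := Amp73.isCoh_of_isInvertible hL
  have hfl := Cube7.isFlatOver_of_isInvertible π hL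
  obtain ⟨-, hfree⟩ := S2390.result π L hcoh hfl fun i _ => hR i
  obtain ⟨U, hU, ⟨e⟩⟩ := hfree (pt τ)
  have hpush : IsZero ((Coh.push π).obj L) :=
    (hR 0).of_iso ((Scheme.Modules.pushforward π).rightDerivedZeroIsoSelf.app L).symm
  have hz : IsZero (FlatMod.freeMod (↑U : Scheme.{u}) (CohIII.fiberRank π L 0 (pt τ))) :=
    ((Scheme.Modules.restrictFunctor U.ι).map_isZero hpush).of_iso e.symm
  haveI : Nonempty (↑U : Scheme.{u}) := ⟨⟨pt τ, hU⟩⟩
  have hn := eq_zero_of_isZero_freeMod hz
  obtain ⟨V, hV, hy, -⟩ := exists_isAffineOpen_mem_and_subset (X := T.left) (x := pt τ) (U := ⊤) trivial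
  obtain ⟨P, N, -, -, -, -, hfib⟩ := Mum71.exists_local_model π hV L hcoh hfl
  obtain ⟨h1, h2⟩ := hfib 0 (pt τ) hy
  exact (fiberH_subsingleton_iff hL τ 0).1 (h2.2 (h1.symm.trans hn))

omit [GeometricallyIntegral X.hom] in
/-- A degree in which no member has cohomology has no higher direct image. -/
theorem isZero_rpush_of_forall {L : (X ⊗ T).left.Modules} (hL : PicF.IsInvertible L) (q : ℕ)
    (h : ∀ τ : Pts T, Subsingleton (Coh.HH X.left ((Scheme.Modules.pullback (slice X τ).left).obj L) q)) :
    IsZero ((Coh.Rpush (snd X T).left q).obj L) := by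
  have hs := exists_suppIn hL Set.finite_empty q (fun τ _ => h τ)
  rw [Set.image_empty] at hs
  exact isZero_of_suppIn hs Set.finite_empty (by simp)
    (subsingleton_of_forall_eq 0 fun s => hs.section_eq_zero (V := ⊤) (fun x _ => Set.notMem_empty x) s)

end Groth.Agent.AbTI73
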