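import Groth.Agent.AbTI73.DepthVanish
import Groth.Agent.AbTI73.Vanish
import Groth.Agent.Mum71.Trunc
import Groth.Agent.Mum71.SchemeModel
import Groth.Agent.RB70.Coherent
import Groth.Agent.QC70.Loc
import Groth.Agent.DR39.Elem

/-!
Higher direct images supported in finitely many regular closed points vanish below the dimension.
-/

set_option autoImplicit false
set_option maxSynthPendingDepth 6
set_option synthInstance.maxHeartbeats 200000
set_option linter.style.haveILetI false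
set_option backward.isDefEq.respectTransparency.types false
universe u

open CategoryTheory CategoryTheory.Limits AlgebraicGeometry TopologicalSpace Opposite
open CohIII (T tensorObj)

noncomputable section

namespace Groth.Agent.AbTI73

section Algebra

variable {A : Type u} [CommRing A]

/-- Cohomology with coefficients in the ring is the cohomology. -/
def tUnitEquiv (K : CochainComplex (ModuleCat.{u} A) ℤ) (p : ℤ) :
    T K p (ModuleCat.of A A) ≃ₗ[A] K.homology p :=
  ((HomologicalComplex.homologyFunctor (ModuleCat.{u} A) (ComplexShape.up ℤ) p).mapIso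
    (((NatIso.mapHomologicalComplex (MonoidalCategory.rightUnitorNatIso (ModuleCat.{u} A)) (ComplexShape.up ℤ)).app K) ≪≫
      ((Functor.mapHomologicalComplexIdIso (ModuleCat.{u} A) (ComplexShape.up ℤ)).app K))).toLinearEquiv

theorem exists_pow_smul_mem_range (K : CochainComplex (ModuleCat.{u} A) ℤ) (p : ℤ)
    {H : Type u} [AddCommGroup H] [Module A H] (e : H ≃ₗ[A] K.homology p) (a : A)
    (h : ∀ x : H, ∃ n : ℕ, a ^ n • x = 0) (z : K.X p) (hz : (K.d p (p + 1)).hom z = 0) :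
    ∃ n : ℕ, a ^ n • z ∈ LinearMap.range (K.d (p - 1) p).hom := by
  obtain ⟨n, hn⟩ := h (e.symm (FCx40.hcls K p (p + 1) (CochainComplex.next ℤ p) ⟨z, hz⟩))
  refine ⟨n, (FCx40.hcls_eq_zero_iff (CochainComplex.prev ℤ p) (CochainComplex.next ℤ p) (a ^ n • ⟨z, hz⟩)).1 ?_⟩
  rw [map_smul]
  have := congrArg e hn
  rwa [map_smul, e.apply_symm_apply, map_zero] at this

/-- A finite projective complex in non-negative degrees with cohomology killed by the powers of a regular
maximal ideal of dimension `g` has no cohomology below degree `g`. -/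
theorem isZero_homology_of_regular [IsNoetherianRing A] (m : Ideal A) [m.IsMaximal] (g : ℕ)
    [IsRegularLocalRing (Localization.AtPrime m)] (hg : ringKrullDim (Localization.AtPrime m) = g)
    (K : CochainComplex (ModuleCat.{u} A) ℤ) (hK : ∀ i, Module.Finite A (K.X i) ∧ Module.Projective A (K.X i))
    (hneg : ∀ i, i < 0 → IsZero (K.X i))
    (hkill : ∀ (p : ℕ), ∀ a ∈ m, ∀ z : K.X (p : ℤ), (K.d (p : ℤ) ((p : ℤ) + 1)).hom z = 0 →
      ∃ n : ℕ, a ^ n • z ∈ LinearMap.range (K.d ((p : ℤ) - 1) (p : ℤ)).hom)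
    (p : ℕ) (hp : p < g) : IsZero (K.homology (p : ℤ)) := by
  haveI := fun i => (hK i).1
  haveI := fun i => (hK i).2
  let d : ∀ i : ℕ, K.X (i : ℤ) →ₗ[A] K.X ((i + 1 : ℕ) : ℤ) := fun i => (K.d (i : ℤ) ((i + 1 : ℕ) : ℤ)).hom
  have hd0 : ∀ (i : ℕ) (z : K.X (i : ℤ)), d i z = 0 → (K.d (i : ℤ) ((i : ℤ) + 1)).hom z = 0 := fun i z hz => hz
  have hr : ∀ (i : ℕ) (z : K.X ((i + 1 : ℕ) : ℤ)),
      z ∈ LinearMap.range (K.d (((i + 1 : ℕ) : ℤ) - 1) ((i + 1 : ℕ) : ℤ)).hom ↔ z ∈ LinearMap.range (d i) := by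
    intro i z
    rw [show ((i + 1 : ℕ) : ℤ) - 1 = (i : ℤ) by omega]
  have hr0 : ∀ z : K.X ((0 : ℕ) : ℤ), z ∈ LinearMap.range (K.d (((0 : ℕ) : ℤ) - 1) ((0 : ℕ) : ℤ)).hom → z = 0 := by
    rintro z ⟨w, rfl⟩
    haveI := ModuleCat.subsingleton_of_isZero (hneg (((0 : ℕ) : ℤ) - 1) (by omega))
    rw [Subsingleton.elim w 0, map_zero]
  obtain ⟨h0, h1⟩ := cycle_eq_boundary_of_regular m g hg (fun i : ℕ => (K.X (i : ℤ) : Type u)) d
    (fun i v => ConcreteCategory.congr_hom (K.d_comp_d ((i : ℕ) : ℤ) ((i + 1 : ℕ) : ℤ) ((i + 1 + 1 : ℕ) : ℤ)) v)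
    (fun a ha i z hz _ => (hkill (i + 1) a ha z (hd0 _ z hz)).imp fun n h => (hr i _).1 h)
    (fun a ha z hz => (hkill 0 a ha z (hd0 0 z hz)).imp fun n h => hr0 _ h)
  rw [DR39.isZero_homology_iff]
  intro z hz
  cases p with
  | zero => exact (h0 z hz hp).symm ▸ Submodule.zero_mem _
  | succ p => exact (hr p z).2 (h1 p z hz hp)

end Algebra

variable {X Y : Scheme.{u}} (f : X ⟶ Y) [IsProper f] [IsLocallyNoetherian Y] [HasInjectiveResolutions X.Modules]

theorem subsingleton_sections_rpush_below (F : X.Modules) (hF : Coh.IsCoh F) (hfl : FlatMod.IsFlatOver f F)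
    {V : Y.Opens} (hV : IsAffineOpen V) {y : Y} (hy : y ∈ V) (hyc : IsClosed ({y} : Set Y))
    (hsupp : ∀ p, Crv77.SuppIn ((Coh.Rpush f p).obj F) ((V : Set Y)ᶜ ∪ {y}))
    (g : ℕ) [IsRegularLocalRing (Y.presheaf.stalk y)] (hg : ringKrullDim (Y.presheaf.stalk y) = g)
    (p : ℕ) (hp : p < g) : Subsingleton Γ((Coh.Rpush f p).obj F, V) := by
  haveI : IsNoetherianRing Γ(Y, V) := IsLocallyNoetherian.component_noetherian ⟨V, hV⟩
  haveI := hF.1
  let W := f ⁻¹ᵁ V
  letI : W.toScheme.Over (Spec (CommRingCat.of Γ(Y, V))) := ⟨Mum71.affBase f hV⟩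
  haveI : IsProper (W.toScheme ↘ Spec (CommRingCat.of Γ(Y, V))) :=
    inferInstanceAs (IsProper ((f ∣_ V) ≫ hV.isoSpec.hom))
  have hFW := Amp73.isCoh_restrict hF W
  haveI := hFW.1
  have hflW : FlatMod.IsFlatOver (W.toScheme ↘ Spec (CommRingCat.of Γ(Y, V))) (F.restrict W.ι) := fun x =>
    FlatMor66.isFlatOverAt_of_iso _ ((Scheme.Modules.restrictFunctorIsoPullback W.ι).app F).symm x
      (FlatMor66.isFlatOverAt_baseChange (Mum71.isPullback_affBase f hV) F hF.1 x (hfl _))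
  obtain ⟨ι, hι, U, L, φ, N, hU, hU', hL, hN, hφ⟩ := Mum71.exists_model Γ(Y, V) (F.restrict W.ι) hFW hflW
  obtain ⟨K, hK, hK0, hKT⟩ := Mum71.exists_amplitude L
    (fun i => ⟨(hL i).1, haveI : Module.Free Γ(Y, V) (L.X i) := (hL i).2; inferInstance⟩) N hN 0 N
    (fun q hq => (HomologicalComplex.exactAt_iff_isZero_homology _ _).1
      (ShortComplex.exact_of_isZero_X₂ _ (hN q hq)))
    (fun m _ q hq => Mum71.isZero_T_of_neg hφ _ q hq)
  have hE : ∀ q : ℕ, Nonempty (Γ((Coh.Rpush f q).obj F, V) ≃ₗ[Γ(Y, V)] K.homology (q : ℤ)) := fun q => by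
    obtain ⟨e₁, he₁⟩ := Mum71.exists_rpush_equiv f F hV q
    obtain ⟨e₂⟩ := Mum71.nonempty_hh_linear hU hU' hφ q
    obtain ⟨e₃⟩ := hKT (ModuleCat.of Γ(Y, V) Γ(Y, V)) (q : ℤ)
    let e₁' : Γ((Coh.Rpush f q).obj F, V) ≃ₗ[Γ(Y, V)] Coh.HH W.toScheme (F.restrict W.ι) q :=
      { e₁ with
        map_smul' := fun a x => by
          refine (he₁ a x).trans ?_
          exact congrArg (· • e₁ x) (Mum71.toGlobal_affBase f hV a).symm }
    exact ⟨e₁'.trans (e₂.symm.trans (e₃.toLinearEquiv.trans (tUnitEquiv K (q : ℤ))))⟩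
  let x := hV.primeIdealOf ⟨y, hy⟩
  letI : Algebra Γ(Y, V) (Y.presheaf.stalk y) := (Y.presheaf.germ V y hy).hom.toAlgebra
  haveI : IsLocalization.AtPrime (Y.presheaf.stalk y) x.asIdeal := hV.isLocalization_stalk ⟨y, hy⟩
  let ψ : Localization.AtPrime x.asIdeal ≃ₐ[Γ(Y, V)] Y.presheaf.stalk y :=
    IsLocalization.algEquiv x.asIdeal.primeCompl _ _
  haveI : IsRegularLocalRing (Localization.AtPrime x.asIdeal) :=
    IsRegularLocalRing.of_ringEquiv ψ.symm.toRingEquiv
  have hdim : ringKrullDim (Localization.AtPrime x.asIdeal) = g :=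
    (ringKrullDim_eq_of_ringEquiv ψ.toRingEquiv).trans hg
  haveI : x.asIdeal.IsMaximal := by
    rw [← PrimeSpectrum.isClosed_singleton_iff_isMaximal, show x = hV.isoSpec.hom ⟨y, hy⟩ from rfl,
      ← Set.image_singleton]
    refine hV.isoSpec.hom.homeomorph.isClosedMap _ ?_
    have he : ({⟨y, hy⟩} : Set V.toScheme) = V.ι ⁻¹' {y} := Set.ext fun z =>
      ⟨fun h => congrArg (fun w : V.toScheme => V.ι w) h, fun h => Subtype.ext h⟩
    exact he ▸ hyc.preimage V.ι.continuous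
  obtain ⟨e⟩ := hE p
  refine @Equiv.subsingleton _ _ e.toEquiv (ModuleCat.subsingleton_of_isZero
    (isZero_homology_of_regular x.asIdeal g hdim K hK (fun i hi => hK0 i (Or.inl hi)) (fun q a ha z hz => ?_) p hp))
  obtain ⟨eq⟩ := hE q
  refine exists_pow_smul_mem_range K (q : ℤ) eq a (fun s => ?_) z hz
  haveI : ((Coh.Rpush f q).obj F).IsQuasicoherent := (RB70.isCoh_rpush f F hF q).1
  refine (QC70.isLocAt_of_isQuasicoherent _ hV).eq_zero_of a s ((hsupp q).section_eq_zero (V := Y.basicOpen a) ?_ _)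
  intro z hz hzS
  rcases hzS with hzV | hzy
  · exact hzV (Y.basicOpen_le a hz)
  · rw [Set.mem_singleton_iff] at hzy
    subst hzy
    have h1 : IsUnit (Y.presheaf.germ V z hy a) := (Y.mem_basicOpen a z hy).1 hz
    exact (IsLocalization.AtPrime.isUnit_to_map_iff (Y.presheaf.stalk z) x.asIdeal a).1 h1 ha

/-- Higher direct images supported in finitely many regular closed points vanish below the dimension. -/
theorem isZero_rpush_below (F : X.Modules) (hF : Coh.IsCoh F) (hfl : FlatMod.IsFlatOver f F) {S : Set Y}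
    (hS : S.Finite) (hcl : ∀ x ∈ S, IsClosed ({x} : Set Y)) (hsupp : ∀ p, Crv77.SuppIn ((Coh.Rpush f p).obj F) S)
    (g : ℕ) (hreg : ∀ y ∈ S, IsRegularLocalRing (Y.presheaf.stalk y))
    (hg : ∀ y ∈ S, ringKrullDim (Y.presheaf.stalk y) = g) (p : ℕ) (hp : p < g) :
    IsZero ((Coh.Rpush f p).obj F) := by
  refine isZero_of_suppIn (hsupp p) hS hcl (subsingleton_of_forall_eq 0 fun s => ?_)
  refine QC70.section_ext _ s 0 fun y _ => ?_
  by_cases hyS : y ∈ S
  · let O := Crv77.complOpen (hS.subset (Set.sdiff_subset : S \ {y} ⊆ S)) fun x hx => hcl x hx.1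
    obtain ⟨V, hV, hy, hVO⟩ := exists_isAffineOpen_mem_and_subset (X := Y) (x := y) (U := O) fun h => h.2 rfl
    haveI := hreg y hyS
    have hsub := subsingleton_sections_rpush_below f F hF hfl hV hy (hcl y hyS)
      (fun q x hx => hsupp q x fun hxS => hx (by
        by_cases h : x = y
        · exact Or.inr h
        · exact Or.inl fun hxV => hVO hxV ⟨hxS, h⟩)) g (hg y hyS) p hp
    exact ⟨V, le_top, hy, hsub.elim _ _⟩
  · let O := Crv77.complOpen hS hcl
    exact ⟨O, le_top, hyS, ((hsupp p).section_eq_zero (V := O) (fun x hx => hx) _).trans (map_zero _).symm⟩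

end Groth.Agent.AbTI73
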