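import Groth.Agent.AbTI73.AmpleVanish
import Groth.Agent.AbTI73.RpushBelow
import Groth.Agent.AbVanish7.Kunneth
import Groth.Agent.S0354
import Groth.Agent.S0458
import Groth.Agent.VarGal.SmoothReg

/-!
The index of a non-degenerate invertible module on an abelian variety.
-/

set_option autoImplicit false
set_option maxSynthPendingDepth 6
set_option linter.style.haveILetI false
set_option backward.isDefEq.respectTransparency.types false
universe u

open CategoryTheory CategoryTheory.Limits MonoidalCategory CartesianMonoidalCategory MonObj AlgebraicGeometry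
open TopologicalSpace

noncomputable section

namespace Groth.Agent.AbTI73

open Ampl73 (Pts pt rT)
open AbSquare57 (pb pb_comp pb_cls pb_id)

variable {K : Type u} [Field K] [IsAlgClosed K] {A : Over (Spec (CommRingCat.of K))} [GrpObj A]
  [IsProper A.hom] [GeometricallyIntegral A.hom]

omit [IsAlgClosed K] [GrpObj A] [GeometricallyIntegral A.hom] in
/-- No cohomology above the dimension. -/
theorem subsingleton_hh_above {g : ℕ} (hg : topologicalKrullDim A.left = g) (M : A.left.Modules) (n : ℕ)
    (hn : g < n) : Subsingleton (Coh.HH A.left M n) := by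
  haveI : IsLocallyNoetherian A.left := LocallyOfFiniteType.isLocallyNoetherian A.hom
  haveI : CompactSpace A.left := QuasiCompact.compactSpace_of_compactSpace A.hom
  haveI : AlgebraicGeometry.IsNoetherian A.left := {}
  exact S0458.result g hg.le (Coh.toAb M) n hn

/-- The product with an inverse has cohomology only in the dimension, and has some. -/
theorem box_inverse_cohomology {g : ℕ} (hg : topologicalKrullDim A.left = g) {L N : A.left.Modules}
    (hL : PicF.IsInvertible L) (hN : PicF.IsInvertible N) (hLN : PicGrp.cls L hL * PicGrp.cls N hN = 1)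
    (hfin : {a : Pts A | pb (rT a).left (PicGrp.cls L hL) = PicGrp.cls L hL}.Finite) :
    (∀ n, n ≠ g → ∀ a b : ℕ, a + b = n → Subsingleton (Coh.HH A.left L a) ∨ Subsingleton (Coh.HH A.left N b)) ∧
      ∃ a b : ℕ, ¬ Subsingleton (Coh.HH A.left L a) ∧ ¬ Subsingleton (Coh.HH A.left N b) := by
  haveI : IsProper (A ⊗ A).hom := inferInstanceAs (IsProper (pullback.fst A.hom A.hom ≫ A.hom))
  haveI : HasInjectiveResolutions (A ⊗ A).left.Modules := inferInstance
  haveI := Ampl73.isIntegral_left (A := A)
  haveI : IsLocallyNoetherian A.left := LocallyOfFiniteType.isLocallyNoetherian A.hom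
  set c := PicGrp.cls L hL
  obtain ⟨E, hE, hEq⟩ := PicGrp.exists_eq_cls (lam c)
  have h1 : PicF.IsInvertible ((Scheme.Modules.pullback (fst A A).left).obj L) := PicLoc.isInvertible_pullback _ hL
  have h2 : PicF.IsInvertible ((Scheme.Modules.pullback (snd A A).left).obj N) := PicLoc.isInvertible_pullback _ hN
  let D := CohB1.tensorMod ((Scheme.Modules.pullback (fst A A).left).obj L)
    ((Scheme.Modules.pullback (snd A A).left).obj N)
  have hD : PicF.IsInvertible D := EGA73.isInvertible_tensorMod h1 h2
  have hDq : PicGrp.cls D hD = pb (fst A A).left c / pb (snd A A).left c := by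
    rw [← cls_mul_cls' h1 h2, ← pb_cls _ hL, ← pb_cls _ hN, eq_inv_of_mul_eq_one_right hLN, map_inv,
      div_eq_mul_inv]
  let E' := CohB1.tensorMod ((Scheme.Modules.pullback (snd A A).left).obj L) E
  have hE' : PicF.IsInvertible E' := EGA73.isInvertible_tensorMod (PicLoc.isInvertible_pullback _ hL) hE
  let θ : A ⊗ A ⟶ A ⊗ A := CartesianMonoidalCategory.lift (add A) (fst A A)
  let θ' : A ⊗ A ⟶ A ⊗ A := CartesianMonoidalCategory.lift (snd A A) ((snd A A)⁻¹ * fst A A)
  have hθ : IsIso θ.left := by
    have e1 : θ ≫ θ' = 𝟙 _ := by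
      rw [CartesianMonoidalCategory.comp_lift, MonObj.comp_mul, GrpObj.comp_inv, lift_fst, lift_snd, add,
        _root_.inv_mul_cancel_left, lift_fst_snd]
    have e2 : θ' ≫ θ = 𝟙 _ := by
      rw [CartesianMonoidalCategory.comp_lift, add, MonObj.comp_mul, lift_fst, lift_snd,
        _root_.mul_inv_cancel_left, lift_fst_snd]
    exact ⟨⟨θ'.left, by rw [← Over.comp_left, e1]; rfl, by rw [← Over.comp_left, e2]; rfl⟩⟩
  have hDE' : ∀ q, Subsingleton (Coh.HH (A ⊗ A).left E' q) ↔ Subsingleton (Coh.HH (A ⊗ A).left D q) := fun q => by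
    haveI : D.IsQuasicoherent := (Amp73.isCoh_of_isInvertible hD).1
    have hc : PicGrp.cls ((Scheme.Modules.pullback θ.left).obj D) (PicLoc.isInvertible_pullback θ.left hD) =
        PicGrp.cls E' hE' := by
      rw [← pb_cls _ hD, hDq, ← cls_mul_cls' (PicLoc.isInvertible_pullback _ hL) hE, ← pb_cls _ hL, ← hEq,
        map_div, ← pb_comp, ← pb_comp, ← Over.comp_left, ← Over.comp_left, lift_fst, lift_snd, lam,
        ← div_div, mul_div_cancel]
    refine Iff.trans ?_ (ASB64.subsingleton_hh_pullback_iso θ.left D q)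
    exact ⟨subsingleton_hh_of_cls_eq _ _ hc.symm q, subsingleton_hh_of_cls_eq _ _ hc q⟩
  -- the higher direct images of `E` are finitely supported, hence unchanged by the twist
  let S₀ : Set (Pts A) := {a | pb (rT a).left c = c}
  have hcl : ∀ x ∈ pt '' S₀, IsClosed ({x} : Set A.left) := by
    rintro _ ⟨σ, -, rfl⟩; exact Ampl73.isClosed_pt σ
  have hv : ∀ τ ∉ S₀, SliceVan (X := A) E τ := fun τ hτ => by
    refine vanishingTI _ (PicLoc.isInvertible_pullback _ hE) ?_ ?_
    · rw [← pb_cls _ hE, ← hEq, pb_slice_lam]; exact isTI_phi c τ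
    · rw [← pb_cls _ hE, ← hEq, pb_slice_lam]; exact fun h => hτ (div_eq_one.1 h)
  have hv' : ∀ τ ∉ S₀, SliceVan (X := A) E' τ := fun τ hτ q => by
    refine subsingleton_hh_of_cls_eq (PicLoc.isInvertible_pullback _ hE) (PicLoc.isInvertible_pullback _ hE') ?_ q (hv τ hτ q)
    rw [← pb_cls _ hE, ← pb_cls _ hE', ← cls_mul_cls' (PicLoc.isInvertible_pullback _ hL) hE, map_mul,
      ← pb_cls _ hL, (cls_sliced τ _).2, _root_.one_mul]
  have hs := fun q => exists_suppIn hE hfin q (fun τ hτ => hv τ hτ q)
  have hs' := fun q => exists_suppIn hE' hfin q (fun τ hτ => hv' τ hτ q)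
  have hiff : ∀ q, Subsingleton (Coh.HH (A ⊗ A).left E q) ↔ Subsingleton (Coh.HH (A ⊗ A).left D q) := fun q => by
    refine Iff.trans ?_ (hDE' q)
    rw [subsingleton_hh_iff_of_suppIn (snd A A).left E (hfin.image pt) hcl hs q,
      subsingleton_hh_iff_of_suppIn (snd A A).left E' (hfin.image pt) hcl hs' q]
    obtain ⟨i⟩ := (hs q).nonempty_iso_tensorMod (hfin.image pt) hcl hL
    obtain ⟨pf⟩ := projection_rpush (snd A A).left E L (isFinLocFree_of_isInvertible hL) q
    let j := ((sheafSections (Opens.grothendieckTopology A.left) AddCommGrpCat.{u}).obj (Opposite.op ⊤)).mapIso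
      ((SheafOfModules.toSheaf A.left.ringCatSheaf).mapIso (i ≪≫ EGA73.tensComm _ _ ≪≫ pf))
    exact j.addCommGroupIsoToAddEquiv.toEquiv.subsingleton_congr
  have hkun : ∀ n, Subsingleton (Coh.HH (A ⊗ A).left D n) ↔
      ∀ a b : ℕ, a + b = n → Subsingleton (Coh.HH A.left L a) ∨ Subsingleton (Coh.HH A.left N b) :=
    AbVanish7.subsingleton_HH_extTensor A.hom A.hom L (Amp73.isCoh_of_isInvertible hL).1 N
      (Amp73.isCoh_of_isInvertible hN).1
  -- the cohomology of `E` is concentrated in the dimension
  have hR : ∀ n, n ≠ g → IsZero ((Coh.Rpush (snd A A).left n).obj E) := fun n hn => by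
    rcases Nat.lt_or_gt_of_ne hn with hlt | hgt
    · haveI : IsProper (snd A A).left := inferInstanceAs (IsProper (pullback.snd A.hom A.hom))
      haveI : Flat (snd A A).left := inferInstanceAs (Flat (pullback.snd A.hom A.hom))
      haveI : Smooth A.hom := S7795.result A
      exact isZero_rpush_below (snd A A).left E (Amp73.isCoh_of_isInvertible hE)
        (Cube7.isFlatOver_of_isInvertible _ hE) (hfin.image pt) hcl hs g
        (fun y _ => VarGal.isRegularLocalRing_stalk_of_smooth A.hom y)
        (fun y hy => (S0354.result K A y (hcl y hy)).trans hg) n hlt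
    · exact isZero_rpush_of_forall hE n fun τ => subsingleton_hh_above hg _ n hgt
  refine ⟨fun n hn => (hkun n).1 ((hiff n).1 ?_), ?_⟩
  · rw [subsingleton_hh_iff_of_suppIn (snd A A).left E (hfin.image pt) hcl hs n]
    exact Mum71.subsingleton_of_isZero' (V := (⊤ : A.left.Opens)) _ (hR n hn)
  · by_contra hne
    push Not at hne
    have hz := subsingleton_slice_zero hE hfin hv (fun q => (hiff q).2 ((hkun q).2 fun a b _ => ?_)) (1 : Pts A)
    · refine not_subsingleton_hh_zero_structureModule A.left
        (subsingleton_hh_of_cls_eq (PicLoc.isInvertible_pullback _ hE) (PicLoc.isInvertible_structureModule _) ?_ 0 hz)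
      rw [← pb_cls _ hE, ← hEq, pb_slice_lam, phi_one]
      exact PicGrp.cls_structureModule_eq_one.symm
    · by_cases ha : Subsingleton (Coh.HH A.left L a)
      · exact Or.inl ha
      · exact Or.inr (hne a b (not_subsingleton_iff_nontrivial.1 ha))

/-- A non-degenerate invertible module has cohomology in exactly one degree. -/
theorem exists_index {g : ℕ} (hg : topologicalKrullDim A.left = g) {L : A.left.Modules} (hL : PicF.IsInvertible L)
    (hfin : {a : Pts A | pb (rT a).left (PicGrp.cls L hL) = PicGrp.cls L hL}.Finite) :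
    ∃ i, i ≤ g ∧ (∀ j, j ≠ i → Subsingleton (Coh.HH A.left L j)) ∧ ¬ Subsingleton (Coh.HH A.left L i) := by
  obtain ⟨N, hN, ⟨e⟩⟩ := An92.InvMod.exists_inverse hL
  have hLN : PicGrp.cls L hL * PicGrp.cls N hN = 1 := by
    rw [_root_.mul_comm]
    exact (PicGrp.cls_mul_cls_eq_one_iff hN hL).2 ⟨e⟩
  obtain ⟨h, a, b, ha, hb⟩ := box_inverse_cohomology hg hL hN hLN hfin
  refine ⟨a, Nat.le_of_not_lt fun h' => ha (subsingleton_hh_above hg L a h'), fun j hj => ?_, ha⟩
  have hab : a + b = g := by
    by_contra hh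
    exact (h _ hh a b rfl).elim ha hb
  exact (h (j + b) (by omega) j b rfl).resolve_right hb

end Groth.Agent.AbTI73
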