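import Groth.Agent.AbTI73.IndexIsogeny
import Groth.Agent.Crv77.BaseChange
import Groth.Agent.FBase64.ProductDim
import Groth.Prelude.Def_Red

/-!
The index over an arbitrary field, read off after base change to an algebraic closure.
-/

set_option autoImplicit false
set_option maxSynthPendingDepth 6
set_option linter.style.haveILetI false
set_option backward.isDefEq.respectTransparency.types false
universe u

open CategoryTheory CategoryTheory.Limits MonoidalCategory CartesianMonoidalCategory MonObj AlgebraicGeometry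
open TopologicalSpace

noncomputable section

namespace Groth.Agent.AbTI73

open Ampl73 (Pts pt rT)
open AbSquare57 (pb pb_comp pb_cls pb_id)

/-- Cohomology concentrated in one degree and non-zero there. -/
def Conc {X : Scheme.{u}} (M : X.Modules) (i : ℕ) : Prop :=
  (∀ j, j ≠ i → Subsingleton (Coh.HH X M j)) ∧ ¬ Subsingleton (Coh.HH X M i)

/-- Non-degeneracy from concentrated cohomology. -/
theorem finite_fixing_of_conc {K : Type u} [Field K] [IsAlgClosed K] {A : Over (Spec (CommRingCat.of K))} [GrpObj A]
    [IsProper A.hom] [GeometricallyIntegral A.hom] {L : A.left.Modules} (hL : PicF.IsInvertible L) {i : ℕ}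
    (h : Conc L i) : {a : Pts A | pb (rT a).left (PicGrp.cls L hL) = PicGrp.cls L hL}.Finite := by
  letI : A.left.Over (Spec (CommRingCat.of K)) := ⟨A.hom⟩
  haveI : IsProper (A.left ↘ Spec (CommRingCat.of K)) := ‹IsProper A.hom›
  haveI : IsLocallyNoetherian A.left := LocallyOfFiniteType.isLocallyNoetherian A.hom
  by_contra hinf
  have he := euler_eq_zero_of_infinite hL hinf
  rw [euler_eq_of_concentrated K h.1] at he
  rcases mul_eq_zero.1 he with h' | h'
  · exact absurd h' (pow_ne_zero _ (by norm_num))
  · exact h.2 ((subsingleton_hh_iff_finrank K (Amp73.isCoh_of_isInvertible hL) i).2 (by exact_mod_cast h'))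

variable {K : Type u} [Field K] (K' : Type u) [Field K'] [Algebra K K']

/-- the morphism of the extension -/
abbrev bsMap (K : Type u) [Field K] (K' : Type u) [Field K'] [Algebra K K'] :
    Spec (CommRingCat.of K') ⟶ Spec (CommRingCat.of K) := Spec.map (CommRingCat.ofHom (algebraMap K K'))

/-- the base change -/
abbrev bX (X : Over (Spec (CommRingCat.of K))) : Over (Spec (CommRingCat.of K')) := Red.bc (bsMap K K') X

/-- the projection of the base change -/
abbrev bπ (X : Over (Spec (CommRingCat.of K))) : (bX K' X).left ⟶ X.left := pullback.fst X.hom (bsMap K K')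

variable (X : Over (Spec (CommRingCat.of K)))

theorem isProper_bX [IsProper X.hom] : IsProper (bX K' X).hom :=
  MorphismProperty.pullback_snd (P := @IsProper) _ _ inferInstance

theorem geometricallyIntegral_bX [GeometricallyIntegral X.hom] : GeometricallyIntegral (bX K' X).hom :=
  MorphismProperty.pullback_snd (P := @GeometricallyIntegral) _ _ inferInstance

theorem dim_bX [LocallyOfFiniteType X.hom] : topologicalKrullDim (bX K' X).left = topologicalKrullDim X.left :=
  FBase64.topologicalKrullDim_bc X.hom K'

theorem subsingleton_hh_bX [IsProper X.hom] {M : X.left.Modules} (hM : Coh.IsCoh M) (j : ℕ) :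
    Subsingleton (Coh.HH (bX K' X).left ((Scheme.Modules.pullback (bπ K' X)).obj M) j) ↔
      Subsingleton (Coh.HH X.left M j) := by
  letI : X.left.Over (Spec (CommRingCat.of K)) := ⟨X.hom⟩
  haveI : IsProper (X.left ↘ Spec (CommRingCat.of K)) := ‹IsProper X.hom›
  letI : (bX K' X).left.Over (Spec (CommRingCat.of K')) := ⟨(bX K' X).hom⟩
  haveI : IsProper ((bX K' X).left ↘ Spec (CommRingCat.of K')) := isProper_bX K' X
  haveI := Crv77.isNoetherian_of_proper K X.left
  have h := Crv77.finrank_hh_baseChange K K' (bπ K' X) (IsPullback.of_hasPullback X.hom (bsMap K K')) M hM j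
  have hM' : Coh.IsCoh ((Scheme.Modules.pullback (bπ K' X)).obj M) :=
    haveI := hM.1
    haveI := hM.2
    ⟨QCPull72.isQuasicoherent_pullback _ M, QCPull72.isFiniteType_pullback _ M⟩
  rw [subsingleton_hh_iff_finrank K' hM', subsingleton_hh_iff_finrank K hM, h]

variable {X}

theorem conc_bX [IsProper X.hom] {L : X.left.Modules} (hL : PicF.IsInvertible L) (i : ℕ) :
    Conc ((Scheme.Modules.pullback (bπ K' X)).obj L) i ↔ Conc L i := by
  haveI : IsLocallyNoetherian X.left := LocallyOfFiniteType.isLocallyNoetherian X.hom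
  exact and_congr (forall_congr' fun j => imp_congr_right fun _ => subsingleton_hh_bX K' X (Amp73.isCoh_of_isInvertible hL) j)
    (not_congr (subsingleton_hh_bX K' X (Amp73.isCoh_of_isInvertible hL) i))

theorem conc_of_iff {Y Z : Scheme.{u}} {M : Y.Modules} {N : Z.Modules}
    (h : ∀ j, Subsingleton (Coh.HH Y M j) ↔ Subsingleton (Coh.HH Z N j)) {i : ℕ} (hM : Conc M i) : Conc N i :=
  ⟨fun j hj => (h j).1 (hM.1 j hj), fun hs => hM.2 ((h i).2 hs)⟩

theorem conc_of_cls_eq {Y : Scheme.{u}} {M N : Y.Modules} (hM : PicF.IsInvertible M) (hN : PicF.IsInvertible N)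
    (h : PicGrp.cls M hM = PicGrp.cls N hN) {i : ℕ} (hc : Conc M i) : Conc N i :=
  conc_of_iff (fun j => ⟨subsingleton_hh_of_cls_eq hM hN h j, subsingleton_hh_of_cls_eq hN hM h.symm j⟩) hc

variable [GrpObj X] [IsProper X.hom] [GeometricallyIntegral X.hom]

/-- Powers keep the index. -/
theorem conc_tensorPow {L : X.left.Modules} (hL : PicF.IsInvertible L) {i : ℕ} (h : Conc L i) (m : ℕ) (hm : 1 ≤ m) :
    Conc (CohB1.tensorPow L m) i := by
  let K' := AlgebraicClosure K
  haveI := isProper_bX K' X
  haveI := geometricallyIntegral_bX K' X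
  let L' := (Scheme.Modules.pullback (bπ K' X)).obj L
  have hL' : PicF.IsInvertible L' := PicLoc.isInvertible_pullback _ hL
  have hc : Conc L' i := (conc_bX K' hL i).2 h
  obtain ⟨g, hg⟩ := exists_dim_nat (A := bX K' X)
  have h1 : Conc (CohB1.tensorPow L' m) i :=
    conc_of_iff (index_tensorPow hg hL' (finite_fixing_of_conc hL' hc) m hm).1 hc
  refine (conc_bX K' (EGA73.isInvertible_tensorPow hL m) i).1 (conc_of_cls_eq (EGA73.isInvertible_tensorPow hL' m)
    (PicLoc.isInvertible_pullback _ (EGA73.isInvertible_tensorPow hL m)) ?_ h1)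
  rw [cls_tensorPow hL', ← pb_cls _ hL, ← map_pow, ← pb_cls _ (EGA73.isInvertible_tensorPow hL m), cls_tensorPow hL]

/-- Inverse images along finite flat surjective morphisms keep the index. -/
theorem conc_pullback {Y : Over (Spec (CommRingCat.of K))} [GrpObj Y] [IsProper Y.hom] [GeometricallyIntegral Y.hom]
    (f : X ⟶ Y) [IsFinite f.left] [Flat f.left] [Surjective f.left] {L : Y.left.Modules} (hL : PicF.IsInvertible L)
    {i : ℕ} (h : Conc L i) : Conc ((Scheme.Modules.pullback f.left).obj L) i := by
  let K' := AlgebraicClosure K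
  haveI := isProper_bX K' X
  haveI := geometricallyIntegral_bX K' X
  haveI := isProper_bX K' Y
  haveI := geometricallyIntegral_bX K' Y
  let f' : bX K' X ⟶ bX K' Y := (Over.pullback (bsMap K K')).map f
  have hsq : IsPullback (bπ K' X) f'.left f.left (bπ K' Y) := by
    refine IsPullback.of_bot ?_ (pullback.lift_fst _ _ _).symm
      (IsPullback.of_hasPullback Y.hom (bsMap K K') : IsPullback (bπ K' Y) (pullback.snd Y.hom (bsMap K K')) Y.hom (bsMap K K'))
    have e : f'.left ≫ pullback.snd Y.hom (bsMap K K') = pullback.snd X.hom (bsMap K K') := Over.w f'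
    rw [e, Over.w f]
    exact IsPullback.of_hasPullback X.hom (bsMap K K')
  haveI : IsFinite f'.left := MorphismProperty.of_isPullback hsq ‹IsFinite f.left›
  haveI : Flat f'.left := MorphismProperty.of_isPullback hsq ‹Flat f.left›
  haveI : Surjective f'.left := MorphismProperty.of_isPullback hsq ‹Surjective f.left›
  let L' := (Scheme.Modules.pullback (bπ K' Y)).obj L
  have hL' : PicF.IsInvertible L' := PicLoc.isInvertible_pullback _ hL
  have hc : Conc L' i := (conc_bX K' hL i).2 h
  have h1 := conc_of_iff (index_pullback f' hL' (finite_fixing_of_conc hL' hc)) hc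
  refine (conc_bX K' (PicLoc.isInvertible_pullback f.left hL) i).1
    (conc_of_cls_eq (PicLoc.isInvertible_pullback f'.left hL') (PicLoc.isInvertible_pullback _ (PicLoc.isInvertible_pullback f.left hL)) ?_ h1)
  rw [← pb_cls _ hL', ← pb_cls _ hL, ← pb_comp, ← hsq.w, pb_comp, pb_cls, pb_cls]

/-- The index of the inverse. -/
theorem conc_inverse {g : ℕ} (hg : topologicalKrullDim X.left = g) {L N : X.left.Modules}
    (hL : PicF.IsInvertible L) (hN : PicF.IsInvertible N) (hLN : PicGrp.cls L hL * PicGrp.cls N hN = 1)
    {i : ℕ} (h : Conc L i) : i ≤ g ∧ Conc N (g - i) := by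
  let K' := AlgebraicClosure K
  haveI := isProper_bX K' X
  haveI := geometricallyIntegral_bX K' X
  let L' := (Scheme.Modules.pullback (bπ K' X)).obj L
  let N' := (Scheme.Modules.pullback (bπ K' X)).obj N
  have hL' : PicF.IsInvertible L' := PicLoc.isInvertible_pullback _ hL
  have hN' : PicF.IsInvertible N' := PicLoc.isInvertible_pullback _ hN
  have hc : Conc L' i := (conc_bX K' hL i).2 h
  have hg' : topologicalKrullDim (bX K' X).left = g := (dim_bX K' X).trans hg
  obtain ⟨hv, a, b, ha, hb⟩ := box_inverse_cohomology hg' hL' hN'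
    (by rw [← pb_cls _ hL, ← pb_cls _ hN, ← map_mul, hLN, map_one]) (finite_fixing_of_conc hL' hc)
  have hai : a = i := by_contra fun hne => ha (hc.1 a hne)
  subst hai
  have hab : a + b = g := by_contra fun hne => (hv _ hne a b rfl).elim ha hb
  refine ⟨by omega, (conc_bX K' hN _).1 ⟨fun j hj => (hv (a + j) (by omega) a j rfl).resolve_left ha, ?_⟩⟩
  rwa [show g - a = b by omega]

end Groth.Agent.AbTI73

end
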