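import Groth.Agent.AbTI73.Index
import Groth.Agent.AbTI73.EulerIsogeny
import Groth.Agent.Var76.GenericCompare
import Groth.Agent.S1528

/-!
Powers of a non-degenerate invertible module: Euler characteristic and index.
-/

set_option autoImplicit false
set_option maxSynthPendingDepth 6
set_option linter.style.haveILetI false
set_option backward.isDefEq.respectTransparency.types false
universe u

open CategoryTheory CategoryTheory.Limits MonoidalCategory CartesianMonoidalCategory MonObj AlgebraicGeometry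
open TopologicalSpace

noncomputable section

namespace Groth.Agent.AbTI73

open Ampl73 (Pts pt rT)
open AbSquare57 (pb pb_comp pb_cls pb_id)
open Var76.Growth (hi w CloseH)

section General

variable (k : Type u) [Field k] {X : Scheme.{u}} [X.Over (Spec (CommRingCat.of k))]

theorem euler_eq_of_concentrated {M : X.Modules} {i : ℕ}
    (h : ∀ j, j ≠ i → Subsingleton (Coh.HH X M j)) :
    Curv2.euler k X M = (-1 : ℤ) ^ i * (Module.finrank k (Coh.HH X M i) : ℤ) := by
  rw [Curv2.euler]
  refine finsum_eq_single _ i fun j hj => ?_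
  haveI := h j hj
  rw [Module.finrank_zero_of_subsingleton, Nat.cast_zero, mul_zero]

theorem natAbs_euler_of_concentrated {M : X.Modules} {i : ℕ}
    (h : ∀ j, j ≠ i → Subsingleton (Coh.HH X M j)) :
    (Curv2.euler k X M).natAbs = Module.finrank k (Coh.HH X M i) := by
  rw [euler_eq_of_concentrated k h, Int.natAbs_mul, Int.natAbs_pow, Int.natAbs_neg, Int.natAbs_one,
    one_pow, _root_.one_mul, Int.natAbs_natCast]

variable [IsProper (X ↘ Spec (CommRingCat.of k))]

theorem subsingleton_hh_iff_finrank {M : X.Modules} (hM : Coh.IsCoh M) (j : ℕ) :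
    Subsingleton (Coh.HH X M j) ↔ Module.finrank k (Coh.HH X M j) = 0 := by
  haveI := Serre71.finite_hh_of_isProper k M hM j
  exact Module.finrank_zero_iff.symm

/-- The Euler characteristic of the powers is a polynomial. -/
theorem exists_euler_poly {d : ℕ} (hd : topologicalKrullDim X ≤ d) {L : X.Modules} (hL : PicF.IsInvertible L) :
    ∃ P : Polynomial ℚ, ∀ n : ℕ, (Curv2.euler k X (CohB1.tensorPow L n) : ℚ) = P.eval (n : ℚ) := by
  haveI := Crv77.isNoetherian_of_proper k X
  have key : ∀ (P : MvPolynomial (Fin 1) ℚ) (x : ℚ),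
      MvPolynomial.eval (fun _ => x) P = Polynomial.eval x (MvPolynomial.aeval (fun _ => Polynomial.X) P) := fun P x => by
    induction P using MvPolynomial.induction_on with
    | C a => simp
    | add p q hp hq => simp [hp, hq]
    | mul_X p i hp => simp [hp]
  obtain ⟨P, -, hP⟩ := S1528.result k X (Coh.structureModule X) QC70.isCoh_unit d
    ((Topology.IsInducing.subtypeVal.topologicalKrullDim_le).trans hd) 1 (fun _ => L) (fun _ => hL)
  refine ⟨MvPolynomial.aeval (fun _ => Polynomial.X) P, fun n => ?_⟩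
  rw [← Crv77.euler_congr (k := k) (EGA73.tensUnitLeft (CohB1.tensorPow L n))]
  exact (hP fun _ => n).trans (key P _)

end General

variable {K : Type u} [Field K]

theorem pt_comp' {A B : Over (Spec (CommRingCat.of K))} (σ : Pts A) (f : A ⟶ B) : pt (σ ≫ f) = f.left (pt σ) := rfl

theorem finite_comp_mem {A B : Over (Spec (CommRingCat.of K))} [IsAlgClosed K] [LocallyOfFiniteType A.hom]
    (f : A ⟶ B) [IsFinite f.left] {S : Set (Pts B)} (hS : S.Finite) : {a : Pts A | a ≫ f ∈ S}.Finite := by
  refine Set.Finite.of_finite_image ?_ Ampl73.pt_injective.injOn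
  refine ((hS.image pt).preimage' fun y _ => f.left.finite_preimage_singleton y).subset ?_
  rintro _ ⟨a, ha, rfl⟩
  exact ⟨_, ha, pt_comp' a f⟩

variable [IsAlgClosed K] {A : Over (Spec (CommRingCat.of K))} [GrpObj A] [IsProper A.hom]
  [GeometricallyIntegral A.hom]

omit [IsAlgClosed K] in
theorem phi_pow_right (c : AbSquare57.Pic A.left) (a : Pts A) : ∀ n : ℕ, phi c (a ^ n) = phi c a ^ n
  | 0 => by rw [pow_zero, pow_zero, phi_one]
  | n + 1 => by rw [pow_succ, pow_succ, phi_mul, phi_pow_right c a n]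

/-- Powers of a non-degenerate class are non-degenerate. -/
theorem finite_fixing_pow {c : AbSquare57.Pic A.left}
    (hc : {a : Pts A | pb (rT a).left c = c}.Finite) (n : ℕ) (hn : 1 ≤ n) :
    {a : Pts A | pb (rT a).left (c ^ n) = c ^ n}.Finite := by
  haveI := AbDeg57.isFinite_pow (A := A) n hn
  refine (finite_comp_mem (𝟙 A ^ n : A ⟶ A) hc).subset fun a ha => ?_
  show pb (rT (a ≫ (𝟙 A ^ n))).left c = c
  rw [MonObj.comp_pow, Category.comp_id]
  refine div_eq_one.1 ?_
  show phi c (a ^ n) = 1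
  rw [phi_pow_right, phi, div_pow, ← map_pow]
  exact div_eq_one.2 ha

omit [IsAlgClosed K] [GrpObj A] [IsProper A.hom] [GeometricallyIntegral A.hom] in
theorem cls_tensorPow {L : A.left.Modules} (hL : PicF.IsInvertible L) (n : ℕ) :
    PicGrp.cls (CohB1.tensorPow L n) (EGA73.isInvertible_tensorPow hL n) = PicGrp.cls L hL ^ n :=
  Subtype.ext (PicGrp.cls_pow_val hL n).symm

theorem exists_index_pow {g : ℕ} (hg : topologicalKrullDim A.left = g) {L : A.left.Modules}
    (hL : PicF.IsInvertible L) (hfin : {a : Pts A | pb (rT a).left (PicGrp.cls L hL) = PicGrp.cls L hL}.Finite)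
    (n : ℕ) (hn : 1 ≤ n) : ∃ i, i ≤ g ∧ (∀ j, j ≠ i → Subsingleton (Coh.HH A.left (CohB1.tensorPow L n) j)) ∧
      ¬ Subsingleton (Coh.HH A.left (CohB1.tensorPow L n) i) :=
  exists_index hg (EGA73.isInvertible_tensorPow hL n) (by rw [cls_tensorPow hL]; exact finite_fixing_pow hfin n hn)

omit [IsAlgClosed K] in
/-- The inverse image under a multiplication of a symmetric class. -/
theorem pb_pow_of_symm {L : A.left.Modules} (hL : PicF.IsInvertible L)
    (hsym : pb ((𝟙 A)⁻¹ : A ⟶ A).left (PicGrp.cls L hL) = PicGrp.cls L hL) (q : ℕ) (hq : 1 ≤ q) :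
    pb (𝟙 A ^ q : A ⟶ A).left (PicGrp.cls L hL) = PicGrp.cls L hL ^ (q * q) := by
  rw [← cls_tensorPow hL, pb_eq_cls_iff]
  exact AbDeg57.nonempty_pullback_pow_iso hL ((pb_eq_cls_iff _ hL hL).1 hsym) q hq

omit [IsAlgClosed K] in
theorem euler_tensorPow_of_symm {g : ℕ} (hg : topologicalKrullDim A.left = g) {L : A.left.Modules}
    (hL : PicF.IsInvertible L) (hsym : pb ((𝟙 A)⁻¹ : A ⟶ A).left (PicGrp.cls L hL) = PicGrp.cls L hL) (n : ℕ) :
    @Curv2.euler K _ A.left ⟨A.hom⟩ (CohB1.tensorPow L n) = (n : ℤ) ^ g * @Curv2.euler K _ A.left ⟨A.hom⟩ L := by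
  letI : A.left.Over (Spec (CommRingCat.of K)) := ⟨A.hom⟩
  haveI : IsProper (A.left ↘ Spec (CommRingCat.of K)) := ‹IsProper A.hom›
  obtain ⟨P, hP⟩ := exists_euler_poly K hg.le hL
  set e : ℚ := ((Curv2.euler K A.left L : ℤ) : ℚ)
  have key : P = Polynomial.C e * Polynomial.X ^ g := by
    refine Polynomial.eq_of_infinite_eval_eq _ _ (Set.Infinite.mono ?_
      (Set.infinite_range_of_injective (f := fun q : ℕ => (((q + 1) * (q + 1) : ℕ) : ℚ)) fun a b h => ?_))
    · rintro _ ⟨q, rfl⟩
      show Polynomial.eval _ P = Polynomial.eval _ _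
      haveI := AbDeg57.isFinite_pow (A := A) (q + 1) (by omega)
      haveI := AbDeg57.flat_pow (A := A) (q + 1) (by omega)
      obtain ⟨i⟩ := (pb_eq_cls_iff (𝟙 A ^ (q + 1) : A ⟶ A).left hL (EGA73.isInvertible_tensorPow hL _)).1
        ((pb_pow_of_symm hL hsym (q + 1) (by omega)).trans (cls_tensorPow hL _).symm)
      rw [← hP, ← Crv77.euler_congr (k := K) i,
        euler_pullback (𝟙 A ^ (q + 1) : A ⟶ A) _ (AbDeg57.finrank_pow g hg (q + 1) (by omega)) L
          (Amp73.isCoh_of_isInvertible hL)]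
      simp only [Polynomial.eval_mul, Polynomial.eval_C, Polynomial.eval_pow, Polynomial.eval_X, e]
      push_cast
      rw [mul_pow, two_mul g, pow_add]
      ring
    · have h' : (a + 1) * (a + 1) = (b + 1) * (b + 1) := Nat.cast_injective h
      have := Nat.mul_self_inj.1 h'
      omega
  have h := hP n
  rw [key] at h
  simp only [Polynomial.eval_mul, Polynomial.eval_C, Polynomial.eval_pow, Polynomial.eval_X, e] at h
  have h' : ((Curv2.euler K A.left (CohB1.tensorPow L n) : ℤ) : ℚ) = (((n : ℤ) ^ g * Curv2.euler K A.left L : ℤ) : ℚ) := by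
    rw [h]; push_cast; ring
  exact Int.cast_injective h'

/-- A power of a symmetric non-degenerate module has the same index. -/
theorem index_tensorPow_of_symm {g : ℕ} (hg : topologicalKrullDim A.left = g) {L : A.left.Modules}
    (hL : PicF.IsInvertible L) (hsym : pb ((𝟙 A)⁻¹ : A ⟶ A).left (PicGrp.cls L hL) = PicGrp.cls L hL)
    (hfin : {a : Pts A | pb (rT a).left (PicGrp.cls L hL) = PicGrp.cls L hL}.Finite) (n : ℕ) (hn : 1 ≤ n) (j : ℕ) :
    Subsingleton (Coh.HH A.left L j) ↔ Subsingleton (Coh.HH A.left (CohB1.tensorPow L n) j) := by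
  classical
  letI : A.left.Over (Spec (CommRingCat.of K)) := ⟨A.hom⟩
  haveI : IsProper (A.left ↘ Spec (CommRingCat.of K)) := ‹IsProper A.hom›
  haveI : IsIntegral A.left := GeometricallyIntegral.isIntegral_of_subsingleton A.hom
  haveI : IsLocallyNoetherian A.left := LocallyOfFiniteType.isLocallyNoetherian A.hom
  obtain ⟨i₁, -, hv₁, hne₁⟩ := exists_index hg hL hfin
  choose ix hixg hix hixne using exists_index_pow hg hL hfin
  have hpos : 0 < (Curv2.euler K A.left L).natAbs := by
    rw [natAbs_euler_of_concentrated K hv₁, pos_iff_ne_zero, ne_eq,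
      ← subsingleton_hh_iff_finrank K (Amp73.isCoh_of_isInvertible hL)]
    exact hne₁
  set O := Coh.structureModule A.left
  have hO : Coh.IsCoh O := QC70.isCoh_unit
  haveI := hO.1
  have hOL : Coh.IsCoh (CohB1.tensorMod O L) := Amp73.isCoh_tensorMod hO (Amp73.isCoh_of_isInvertible hL)
  obtain ⟨e⟩ := Snapper75.nonempty_stalk_twist O hL (genericPoint A.left)
  choose C hC using fun i => Var76.Growth.close_of_stalk_equiv K hL hOL hO hg.le e i
  let D := (Finset.range (g + 1)).sup C
  let M := D * 2 ^ g + 1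
  have hh : ∀ m i, hi K i L O m = Module.finrank K (Coh.HH A.left (CohB1.tensorPow L m) i) := fun m i =>
    (Crv77.hEquiv K (EGA73.tensUnitLeft (CohB1.tensorPow L m)) i).finrank_eq
  have step : ∀ m (hm : M ≤ m), ix (m + 1) (by omega) = ix m (by omega) := fun m hm => by
    by_contra hne
    set i := ix m (by omega) with hi'
    have h1 := ((hC i) m).2
    rw [Var76.Growth.hi_shift, hh, hh] at h1
    haveI := hix (m + 1) (by omega) i (Ne.symm hne)
    rw [Module.finrank_zero_of_subsingleton (R := K) (M := Coh.HH A.left (CohB1.tensorPow L (m + 1)) i), zero_add,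
      ← natAbs_euler_of_concentrated K (hix m (by omega)), euler_tensorPow_of_symm hg hL hsym m,
      Int.natAbs_mul, Int.natAbs_pow, Int.natAbs_natCast] at h1
    have h2 : m ^ g ≤ D * w g m := by
      refine (Nat.le_mul_of_pos_right _ hpos).trans (h1.trans (Nat.mul_le_mul_right _ ?_))
      exact Finset.le_sup (Finset.mem_range.2 (by have := hixg m (by omega : 1 ≤ m); omega))
    rcases g with _ | g
    · simp [w] at h2
    · have h3 : (m + 1) ^ g ≤ 2 ^ g * m ^ g := by
        rw [← mul_pow]; exact Nat.pow_le_pow_left (by omega) _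
      have h4 : m ^ g * m ≤ m ^ g * (D * 2 ^ g) := by
        rw [← pow_succ]
        refine h2.trans ((Nat.mul_le_mul_left D h3).trans (le_of_eq ?_))
        ring
      have h5 := Nat.le_of_mul_le_mul_left h4 (pow_pos (by omega) _)
      have h6 : D * 2 ^ g ≤ D * 2 ^ (g + 1) := Nat.mul_le_mul_left D (Nat.pow_le_pow_right two_pos (Nat.le_succ g))
      omega
  have const : ∀ m (hm : M ≤ m), ix m (by omega) = ix M (by omega) := fun m hm => by
    induction m, hm using Nat.le_induction with
    | base => rfl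
    | succ m hm ih => rw [step m hm, ih]
  obtain ⟨q, hq, hp⟩ := Nat.exists_infinite_primes (max M (ringChar K) + 1)
  have hq1 : 1 ≤ q := hp.one_le
  have hqK : (q : K) ≠ 0 := fun h => by
    rcases hp.eq_one_or_self_of_dvd _ ((ringChar.spec K q).1 h) with h1 | h1
    · exact CharP.ringChar_ne_one h1
    · omega
  haveI := AbDeg57.isFinite_pow (A := A) q hq1
  haveI := AbDeg57.flat_pow (A := A) q hq1
  haveI : LocallyOfFinitePresentation (𝟙 A ^ q : A ⟶ A).left := inferInstance
  have main : ∀ m (hm : 1 ≤ m), ix m hm = ix M (by omega) := fun m hm => by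
    have hM : M ≤ m * (q * q) :=
      le_trans (by omega : M ≤ q) ((Nat.le_mul_self q).trans (Nat.le_mul_of_pos_left _ hm))
    rw [← const _ hM]
    by_contra hne
    refine hixne m hm (subsingleton_hh_of_pullback (𝟙 A ^ q : A ⟶ A).left (q ^ (2 * g))
      (AbDeg57.finrank_pow g hg q hq1) ?_ (EGA73.isInvertible_tensorPow hL m) _ ?_)
    · have h := (isUnit_iff_ne_zero.2 (pow_ne_zero (2 * g) hqK)).map
        ((Scheme.ΓSpecIso (CommRingCat.of K)).inv ≫ A.hom.appTop).hom
      rw [← Nat.cast_pow, map_natCast] at h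
      exact h
    · refine subsingleton_hh_of_cls_eq (EGA73.isInvertible_tensorPow hL (m * (q * q))) (PicLoc.isInvertible_pullback _
        (EGA73.isInvertible_tensorPow hL m)) ?_ _ (hix _ _ _ hne)
      rw [← pb_cls _ (EGA73.isInvertible_tensorPow hL m), cls_tensorPow hL, cls_tensorPow hL, map_pow,
        pb_pow_of_symm hL hsym q hq1, ← pow_mul, Nat.mul_comm]
  have h1iff : ∀ j, Subsingleton (Coh.HH A.left L j) ↔ Subsingleton (Coh.HH A.left (CohB1.tensorPow L 1) j) :=
    fun j => ⟨subsingleton_hh_of_cls_eq hL _ ((pow_one _).symm.trans (cls_tensorPow hL 1).symm) j,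
      subsingleton_hh_of_cls_eq _ hL ((cls_tensorPow hL 1).trans (pow_one _)) j⟩
  have key : ∀ m (hm : 1 ≤ m), Subsingleton (Coh.HH A.left (CohB1.tensorPow L m) j) ↔ j ≠ ix M (by omega) :=
    fun m hm => by
      rw [← main m hm]
      exact ⟨fun h hj => hixne m hm (hj ▸ h), hix m hm j⟩
  rw [h1iff, key 1 le_rfl, key n hn]

/-- A translate of a non-degenerate class is symmetric. -/
theorem exists_translate_symm {c : AbSquare57.Pic A.left}
    (hc : {a : Pts A | pb (rT a).left c = c}.Finite) :
    ∃ y : Pts A, pb ((𝟙 A)⁻¹ : A ⟶ A).left (pb (rT y).left c) = pb (rT y).left c := by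
  have := comm_A (A := A)
  let ic := pb ((𝟙 A)⁻¹ : A ⟶ A).left c
  have hm : IsTI (ic / c) := fun a => by
    rw [map_div, div_eq_div_iff_mul_eq_mul]
    exact phi_inv_pullback c a
  obtain ⟨x, hx⟩ := exists_phi_eq (vanishingTI (A := A)) hc hm
  obtain ⟨y, hy⟩ := Tors73.divisible A 2 one_le_two x
  refine ⟨y, ?_⟩
  have e : pb (rT y).left c = phi c y * c := (div_mul_cancel _ _).symm
  have h1 := pb_inv_of_isTI (isTI_phi c y) (𝟙 A)
  rw [Over.id_left, pb_id] at h1
  have h2 : ic = phi c y * phi c y * c := by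
    rw [← phi_mul, ← pow_two, hy, hx, div_mul_cancel]
  rw [e, map_mul, h1]
  show (phi c y)⁻¹ * ic = _
  rw [h2, ← _root_.mul_assoc, ← _root_.mul_assoc, _root_.inv_mul_cancel, _root_.one_mul]

omit [IsAlgClosed K] [IsProper A.hom] [GeometricallyIntegral A.hom] in
theorem fixing_translate [IsCommMonObj A] (c : AbSquare57.Pic A.left) (y : Pts A) :
    {a : Pts A | pb (rT a).left (pb (rT y).left c) = pb (rT y).left c} = {a : Pts A | pb (rT a).left c = c} := by
  ext a
  simp only [Set.mem_ofPred_eq]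
  rw [← pb_comp, Ampl73.rT_left_comp, _root_.mul_comm a y, ← Ampl73.rT_left_comp, pb_comp]
  refine ⟨fun h => ?_, fun h => by rw [h]⟩
  have h' := congrArg (pb (rT y⁻¹).left) h
  have e : ∀ d, pb (rT y⁻¹).left (pb (rT y).left d) = d := fun d => by
    rw [← pb_comp, Ampl73.rT_left_comp, _root_.inv_mul_cancel, Ampl73.rT_one, Over.id_left, pb_id]
  rwa [e, e] at h'

/-- A positive power of a non-degenerate module has the same index, and the expected dimension. -/
theorem index_tensorPow {g : ℕ} (hg : topologicalKrullDim A.left = g) {L : A.left.Modules}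
    (hL : PicF.IsInvertible L) (hfin : {a : Pts A | pb (rT a).left (PicGrp.cls L hL) = PicGrp.cls L hL}.Finite)
    (n : ℕ) (hn : 1 ≤ n) :
    (∀ j, Subsingleton (Coh.HH A.left L j) ↔ Subsingleton (Coh.HH A.left (CohB1.tensorPow L n) j)) ∧
      @Curv2.euler K _ A.left ⟨A.hom⟩ (CohB1.tensorPow L n) = (n : ℤ) ^ g * @Curv2.euler K _ A.left ⟨A.hom⟩ L := by
  letI : A.left.Over (Spec (CommRingCat.of K)) := ⟨A.hom⟩
  haveI : IsProper (A.left ↘ Spec (CommRingCat.of K)) := ‹IsProper A.hom›
  have := comm_A (A := A)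
  obtain ⟨y, hy⟩ := exists_translate_symm hfin
  let t := (rT y).left
  let L' := (Scheme.Modules.pullback t).obj L
  have hL' : PicF.IsInvertible L' := PicLoc.isInvertible_pullback _ hL
  have hc : PicGrp.cls L' hL' = pb t (PicGrp.cls L hL) := (pb_cls t hL).symm
  have hn' := EGA73.isInvertible_tensorPow hL n
  obtain ⟨e⟩ : Nonempty ((Scheme.Modules.pullback t).obj (CohB1.tensorPow L n) ≅ CohB1.tensorPow L' n) :=
    (pb_eq_cls_iff t hn' (EGA73.isInvertible_tensorPow hL' n)).1
      (by rw [cls_tensorPow hL, cls_tensorPow hL', hc, map_pow])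
  have hsym : pb ((𝟙 A)⁻¹ : A ⟶ A).left (PicGrp.cls L' hL') = PicGrp.cls L' hL' := by rw [hc]; exact hy
  have hfin' : {a : Pts A | pb (rT a).left (PicGrp.cls L' hL') = PicGrp.cls L' hL'}.Finite := by
    rw [hc, fixing_translate]; exact hfin
  haveI : L.IsQuasicoherent := (Amp73.isCoh_of_isInvertible hL).1
  haveI : (CohB1.tensorPow L n).IsQuasicoherent := (Amp73.isCoh_of_isInvertible hn').1
  refine ⟨fun j => ?_, ?_⟩
  · rw [← ASB64.subsingleton_hh_pullback_iso t L j, ← ASB64.subsingleton_hh_pullback_iso t (CohB1.tensorPow L n) j]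
    exact (index_tensorPow_of_symm hg hL' hsym hfin' n hn j).trans
      ⟨ValVan29.subsingleton_hh_of_iso e.symm j, ValVan29.subsingleton_hh_of_iso e j⟩
  · rw [← euler_pullback_iso t (Over.w _) L (Amp73.isCoh_of_isInvertible hL),
      ← euler_pullback_iso t (Over.w _) (CohB1.tensorPow L n) (Amp73.isCoh_of_isInvertible hn'),
      Crv77.euler_congr (k := K) e]
    exact euler_tensorPow_of_symm hg hL' hsym n

end Groth.Agent.AbTI73

end
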