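import Groth.Agent.AbTI73.Degenerate
import Groth.Agent.Var76.HHPush
import Groth.Agent.CurveDeg75.Pull

/-!
The index of the inverse image along a finite flat morphism of abelian varieties.
-/

set_option autoImplicit false
set_option maxSynthPendingDepth 6
set_option linter.style.haveILetI false
set_option backward.isDefEq.respectTransparency.types false
universe u

open CategoryTheory CategoryTheory.Limits MonoidalCategory CartesianMonoidalCategory MonObj AlgebraicGeometry
open TopologicalSpace

noncomputable section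

namespace Groth.Agent.AbTI73

open Ampl73 (Pts pt rT)
open AbSquare57 (pb pb_comp pb_cls pb_id)
open Var76.Growth (hi w CloseH)

theorem finrank_generic_stalk_of_isFinLocFreeOfRank {X : Scheme.{u}} [IsIntegral X] {E : X.Modules} {d : ℕ}
    (hE : FlatMod.IsFinLocFreeOfRank d E) :
    Module.finrank (X.presheaf.stalk (genericPoint X)) (E.presheaf.stalk (genericPoint X)) = d := by
  obtain ⟨U, hy, ⟨e⟩⟩ := hE (genericPoint X)
  obtain ⟨s, hs⟩ := Props58.LocFree.exists_stalkBasis_of_iso e
  rw [← (hs.stalkEquiv (genericPoint X) hy).finrank_eq]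
  exact Module.finrank_fin_fun (X.presheaf.stalk (genericPoint X))

variable {K : Type u} [Field K] [IsAlgClosed K] {A B : Over (Spec (CommRingCat.of K))} [GrpObj A] [IsProper A.hom]
  [GeometricallyIntegral A.hom] [GrpObj B] [IsProper B.hom] [GeometricallyIntegral B.hom]

/-- A finite flat inverse image of a non-degenerate module is non-degenerate. -/
theorem finite_fixing_pullback (f : A ⟶ B) [IsFinite f.left] [Flat f.left] [Surjective f.left]
    {L : B.left.Modules} (hL : PicF.IsInvertible L)
    (hfin : {b : Pts B | pb (rT b).left (PicGrp.cls L hL) = PicGrp.cls L hL}.Finite) :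
    {a : Pts A | pb (rT a).left (pb f.left (PicGrp.cls L hL)) = pb f.left (PicGrp.cls L hL)}.Finite := by
  haveI : IsIntegral B.left := GeometricallyIntegral.isIntegral_of_subsingleton B.hom
  haveI : IsLocallyNoetherian B.left := LocallyOfFiniteType.isLocallyNoetherian B.hom
  letI : B.left.Over (Spec (CommRingCat.of K)) := ⟨B.hom⟩
  haveI : IsProper (B.left ↘ Spec (CommRingCat.of K)) := ‹IsProper B.hom›
  obtain ⟨d, hd1, hd⟩ := exists_finrank_eq f.left
  obtain ⟨g, hg⟩ := exists_dim_nat (A := B)
  obtain ⟨i, -, hv, hne⟩ := exists_index hg hL hfin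
  by_contra hinf
  rw [pb_cls] at hinf
  have h := euler_eq_zero_of_infinite (PicLoc.isInvertible_pullback f.left hL) hinf
  rw [euler_pullback f d hd L (Amp73.isCoh_of_isInvertible hL), euler_eq_of_concentrated K hv] at h
  rcases mul_eq_zero.1 h with h' | h'
  · omega
  · rcases mul_eq_zero.1 h' with h'' | h''
    · exact absurd h'' (pow_ne_zero _ (by norm_num))
    · exact hne ((subsingleton_hh_iff_finrank K (Amp73.isCoh_of_isInvertible hL) i).2 (by exact_mod_cast h''))

/-- The index is invariant under finite flat inverse images. -/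
theorem index_pullback (f : A ⟶ B) [IsFinite f.left] [Flat f.left] [Surjective f.left]
    {L : B.left.Modules} (hL : PicF.IsInvertible L)
    (hfin : {b : Pts B | pb (rT b).left (PicGrp.cls L hL) = PicGrp.cls L hL}.Finite) (j : ℕ) :
    Subsingleton (Coh.HH B.left L j) ↔ Subsingleton (Coh.HH A.left ((Scheme.Modules.pullback f.left).obj L) j) := by
  letI : B.left.Over (Spec (CommRingCat.of K)) := ⟨B.hom⟩
  haveI : IsProper (B.left ↘ Spec (CommRingCat.of K)) := ‹IsProper B.hom›
  letI : A.left.Over (Spec (CommRingCat.of K)) := ⟨A.hom⟩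
  haveI : IsIntegral B.left := GeometricallyIntegral.isIntegral_of_subsingleton B.hom
  haveI : IsLocallyNoetherian B.left := LocallyOfFiniteType.isLocallyNoetherian B.hom
  haveI : IsLocallyNoetherian A.left := LocallyOfFiniteType.isLocallyNoetherian A.hom
  haveI : LocallyOfFinitePresentation f.left := inferInstance
  obtain ⟨d, hd1, hd⟩ := exists_finrank_eq f.left
  obtain ⟨g, hg⟩ := exists_dim_nat (A := B)
  obtain ⟨gA, hgA⟩ := exists_dim_nat (A := A)
  let L' := (Scheme.Modules.pullback f.left).obj L
  have hL' : PicF.IsInvertible L' := PicLoc.isInvertible_pullback _ hL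
  have hfin' : {a : Pts A | pb (rT a).left (PicGrp.cls L' hL') = PicGrp.cls L' hL'}.Finite := by
    rw [← pb_cls f.left hL]; exact finite_fixing_pullback f hL hfin
  obtain ⟨i, -, hv, hne⟩ := exists_index hg hL hfin
  obtain ⟨i', -, hv', hne'⟩ := exists_index hgA hL' hfin'
  suffices hii : i = i' by
    subst hii
    rcases eq_or_ne j i with rfl | hj
    · exact iff_of_false hne hne'
    · exact iff_of_true (hv j hj) (hv' j hj)
  by_contra hii
  set E := (Coh.push f.left).obj (Coh.structureModule A.left)
  have hE : FlatMod.IsFinLocFreeOfRank d E := isFinLocFreeOfRank_push f.left d hd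
  have hEc : Coh.IsCoh E := QC70.isCoh_pushforward_of_isFinite f.left _ QC70.isCoh_unit
  obtain ⟨C, hC⟩ := Var76.Growth.close_rank K hL hEc hg.le (finrank_generic_stalk_of_isFinLocFreeOfRank hE) i
  let m := C * 2 ^ g + 1
  have hm : 1 ≤ m := by omega
  have hP := EGA73.isInvertible_tensorPow hL m
  have hzero : hi K i L E m = 0 := by
    haveI := hEc.1
    haveI : (CohB1.tensorPow L m).IsQuasicoherent := (Amp73.isCoh_of_isInvertible hP).1
    haveI : (Coh.structureModule A.left).IsQuasicoherent := (QC70.isCoh_unit (X := A.left)).1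
    obtain ⟨p⟩ := CurveDeg75.nonempty_projIso f.left (Coh.structureModule A.left) (E := CohB1.tensorPow L m)
    let M := CohB1.tensorMod (Coh.structureModule A.left) ((Scheme.Modules.pullback f.left).obj (CohB1.tensorPow L m))
    have hM : PicF.IsInvertible M :=
      EGA73.isInvertible_tensorMod EGA73.isInvertible_structureModule (PicLoc.isInvertible_pullback _ hP)
    haveI : M.IsQuasicoherent := (Amp73.isCoh_of_isInvertible hM).1
    obtain ⟨e⟩ := Var76.nonempty_hhLin_push (A := K) f.left (Over.w f) M
      (Cyc90.isCoh_push_of_isFinite f.left M (Amp73.isCoh_of_isInvertible hM)).1 i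
    obtain ⟨r⟩ : Nonempty ((Scheme.Modules.pullback f.left).obj (CohB1.tensorPow L m) ≅ CohB1.tensorPow L' m) :=
      (pb_eq_cls_iff _ hP (EGA73.isInvertible_tensorPow hL' m)).1
        (by rw [cls_tensorPow hL, cls_tensorPow hL', map_pow, pb_cls f.left hL])
    haveI : Subsingleton (Coh.HH A.left M i) :=
      ValVan29.subsingleton_hh_of_iso (EGA73.tensUnitLeft _ ≪≫ r).symm i
        (((index_tensorPow hgA hL' hfin' m hm).1 i).1 (hv' i hii))
    exact (((Crv77.hEquiv K p i).trans e).finrank_eq).trans Module.finrank_zero_of_subsingleton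
  have h1 : d * hi K i L (Coh.structureModule B.left) m ≤ hi K i L E m + C * w g m := (hC m).2
  have hn : hi K i L (Coh.structureModule B.left) m = Module.finrank K (Coh.HH B.left (CohB1.tensorPow L m) i) :=
    (Crv77.hEquiv K (EGA73.tensUnitLeft (CohB1.tensorPow L m)) i).finrank_eq
  obtain ⟨hiff, heul⟩ := index_tensorPow hg hL hfin m hm
  rw [hzero, zero_add, hn, ← natAbs_euler_of_concentrated K (fun j hj => (hiff j).1 (hv j hj)), heul,
    Int.natAbs_mul, Int.natAbs_pow, Int.natAbs_natCast, natAbs_euler_of_concentrated K hv] at h1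
  have hpos : 0 < Module.finrank K (Coh.HH B.left L i) := Nat.pos_of_ne_zero fun h =>
    hne ((subsingleton_hh_iff_finrank K (Amp73.isCoh_of_isInvertible hL) i).2 h)
  have h2 : m ^ g ≤ C * w g m :=
    ((Nat.le_mul_of_pos_right _ hpos).trans (Nat.le_mul_of_pos_left _ hd1)).trans h1
  rcases g with _ | g
  · simp [w] at h2
  · have h3 : (m + 1) ^ g ≤ 2 ^ g * m ^ g := by
      rw [← mul_pow]; exact Nat.pow_le_pow_left (by omega) _
    have h4 : m ^ g * m ≤ m ^ g * (C * 2 ^ g) := by
      rw [← pow_succ]
      refine h2.trans ((Nat.mul_le_mul_left C h3).trans (le_of_eq ?_))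
      ring
    have h5 := Nat.le_of_mul_le_mul_left h4 (pow_pos (by omega) _)
    have h6 : C * 2 ^ g ≤ C * 2 ^ (g + 1) := Nat.mul_le_mul_left C (Nat.pow_le_pow_right two_pos (Nat.le_succ g))
    omega

end Groth.Agent.AbTI73

end
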