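import Groth.Agent.TopCoh49.LerayDeg
import Groth.Agent.TopCoh49.Rpush
import Groth.Agent.Depth22.Compare
import Groth.Agent.S11319

/-!
The lowest non-vanishing higher direct image computes the cohomology in its degree.
-/

set_option autoImplicit false
set_option linter.style.haveILetI false
universe u

open CategoryTheory Limits TopologicalSpace Opposite

noncomputable section

namespace Groth.Agent.AbTI73

theorem nonempty_leray_low {X Y : TopCat.{u}} (f : X ⟶ Y) (F : CohTop.Ab X) (n : ℕ)
    (h : ∀ j, j < n → IsZero ((CohTop.Rpush f j).obj F)) :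
    Nonempty (CohTop.H F n ≃+ ((CohTop.Rpush f n).obj F).obj.obj (op ⊤)) := by
  let R := injectiveResolution F
  let K := ((CohTop.push f).mapHomologicalComplex (ComplexShape.up ℕ)).obj R.cocomplex
  let e : ∀ m, K.homology m ≅ (CohTop.Rpush f m).obj F := fun m => (R.isoRightDerivedObj _ m).symm
  haveI : ∀ i, Injective (K.X i) := fun i => TopCoh49.injective_push f _ (R.injective i)
  haveI hc : IsIso (RDer.homologyComparison (TopCoh49.gammaTop Y) K n) :=
    Depth22.isIso_homologyComparison _ K n fun i hi => (h i hi).of_iso (e i)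
  let W := (evaluation ((Opens X)ᵒᵖ) AddCommGrpCat.{u}).obj (op (⊤ : Opens X))
  let j : (((TopCoh49.gammaTop Y).mapHomologicalComplex _).obj K).homology n ≅
      (TopCoh49.extPre (TopCoh49.freeFun X) F n).obj (op ⊤) :=
    ((TopCoh49.preCx R).sc n).mapHomologyIso W ≪≫ W.mapIso (TopCoh49.preCxHomologyIso R n)
  exact ⟨((TopCoh49.HEquivTop F n).trans (j.addCommGroupIsoToAddEquiv.symm)).trans
    ((@asIso _ _ _ _ (RDer.homologyComparison (TopCoh49.gammaTop Y) K n) hc) ≪≫
      (TopCoh49.gammaTop Y).mapIso (e n)).addCommGroupIsoToAddEquiv⟩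

open AlgebraicGeometry

theorem nonempty_hh_low {X Y : Scheme.{u}} (f : X ⟶ Y) [HasInjectiveResolutions X.Modules] (F : X.Modules) (n : ℕ)
    (h : ∀ j, j < n → IsZero ((Coh.Rpush f j).obj F)) :
    Nonempty (Coh.HH X F n ≃+ Γ((Coh.Rpush f n).obj F, ⊤)) := by
  have h' : ∀ j, j < n → IsZero ((CohTop.Rpush f.base j).obj (Coh.toAb F)) := fun j hj => by
    obtain ⟨e⟩ := S11319.result f F j
    exact ((SheafOfModules.toSheaf Y.ringCatSheaf).map_isZero (h j hj)).of_iso e.symm
  obtain ⟨e⟩ := nonempty_leray_low f.base (Coh.toAb F) n h'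
  obtain ⟨e'⟩ := S11319.result f F n
  let e'' := ((sheafSections (Opens.grothendieckTopology Y) AddCommGrpCat.{u}).obj (op ⊤)).mapIso e'
  exact ⟨e.trans e''.symm.addCommGroupIsoToAddEquiv⟩

end Groth.Agent.AbTI73
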