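import Groth.Agent.Formal27.QuasiAffine
import Groth.Agent.EGA73.Tensor
import Groth.Agent.Cyc90.Dev.DualPull
import Groth.Agent.RB70.PushHom
import Groth.Agent.Mod48.DerivedPrecomp
import Groth.Agent.Strict99.Basic
import Groth.Prelude.Def_PicGrp
import Groth.Prelude.Def_FlatMod2

/-!
The projection formula for higher direct images and a locally free module, as in S0927, with imports compatible with
the tensor calculus of modules.
-/

set_option autoImplicit false
set_option backward.isDefEq.respectTransparency.types false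
universe u

open CategoryTheory AlgebraicGeometry

noncomputable section

namespace Groth.Agent.AbTI73

/-- Isomorphic functors have isomorphic derived functors. -/
def derivedIso {A : Type*} [Category A] [Abelian A] [HasInjectiveResolutions A] {D : Type*} [Category D] [Abelian D]
    {F G : A ⥤ D} [F.Additive] [G.Additive] (e : F ≅ G) (n : ℕ) : F.rightDerived n ≅ G.rightDerived n where
  hom := NatTrans.rightDerived e.hom n
  inv := NatTrans.rightDerived e.inv n
  hom_inv_id := by rw [← NatTrans.rightDerived_comp, e.hom_inv_id, NatTrans.rightDerived_id]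
  inv_hom_id := by rw [← NatTrans.rightDerived_comp, e.inv_hom_id, NatTrans.rightDerived_id]

theorem projection_rpush {X Y : Scheme.{u}} (f : X ⟶ Y) [HasInjectiveResolutions X.Modules]
    (F : X.Modules) (E : Y.Modules) (hE : FlatMod.IsFinLocFree E) (q : ℕ) :
    Nonempty (CohB1.tensorMod E ((Coh.Rpush f q).obj F) ≅
      (Coh.Rpush f q).obj (CohB1.tensorMod ((Scheme.Modules.pullback f).obj E) F)) := by
  have hA := Groth.Agent.Formal27.isFinLocFree_dualMod hE
  let A' : X.Modules := (Scheme.Modules.pullback f).obj (QC70.dualMod E)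
  have hA' : FlatMod.IsFinLocFree A' := Groth.Agent.Strict99.isFinLocFree_pullback f hA
  let T := Groth.Agent.QC70.homFunctor (Groth.Agent.QC70.dualMod E)
  let T' := Groth.Agent.QC70.homFunctor A'
  haveI : T.Additive := (Groth.Agent.QC70.homModAdj _).right_adjoint_additive
  haveI : T'.Additive := (Groth.Agent.QC70.homModAdj _).right_adjoint_additive
  haveI : T.PreservesHomology := Groth.Agent.QC70.preservesHomology_homFunctor hA
  haveI : T'.PreservesHomology := Groth.Agent.QC70.preservesHomology_homFunctor hA'
  haveI : Limits.PreservesFiniteLimits T' := T'.preservesFiniteLimits_of_preservesHomology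
  haveI : Limits.PreservesFiniteColimits T' := T'.preservesFiniteColimits_of_preservesHomology
  let P := Scheme.Modules.pushforward f
  let e : (Coh.Rpush f q).obj (T'.obj F) ≅ T.obj ((Coh.Rpush f q).obj F) :=
    ((Groth.Agent.Mod48.rightDerivedPrecompIso T'
      (fun I hI => @Groth.Agent.QC70.injective_homMod X A' hA' I hI) P q).app F).symm ≪≫
      (derivedIso (Groth.Agent.RB70.pushHom f (Groth.Agent.QC70.dualMod E)) q).app F ≪≫
      (Groth.Agent.SiteCoh.rightDerivedCompExactIso P T q).app F
  haveI := Groth.Agent.Formal27.isIso_bidual hE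
  haveI := Groth.Agent.Cyc90.Dev.isIso_dualPullHom f hA
  let d : Groth.Agent.QC70.dualMod A' ≅ (Scheme.Modules.pullback f).obj E :=
    (asIso (Groth.Agent.Cyc90.Dev.dualPullHom f hA)).symm ≪≫
      (Scheme.Modules.pullback f).mapIso (asIso (Groth.Agent.Formal27.bidual E)).symm
  obtain ⟨t⟩ := Groth.Agent.QC70.nonempty_tensor_dual_iso hA ((Coh.Rpush f q).obj F)
  obtain ⟨t'⟩ := Groth.Agent.QC70.nonempty_tensor_dual_iso hA' F
  exact ⟨Groth.Agent.EGA73.tensComm _ _ ≪≫
    PicGrp.tensorModIso (Iso.refl _) (asIso (Groth.Agent.Formal27.bidual E)) ≪≫ t ≪≫ e.symm ≪≫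
    (Coh.Rpush f q).mapIso (t'.symm ≪≫ PicGrp.tensorModIso (Iso.refl F) d ≪≫ Groth.Agent.EGA73.tensComm _ _)⟩

end Groth.Agent.AbTI73
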