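import Groth.Agent.AbTI73.PicZero
import Groth.Agent.AbTI73.Low
import Groth.Agent.AbTI73.Effective
import Groth.Agent.RB70.Coherent
import Groth.Agent.FlatMor68.LocFree
import Groth.Agent.VB30.Torsor
import Groth.Agent.VB30.WeilCore
import Groth.Agent.S0033
import Groth.Agent.AbTI73.ProjRpush
import Groth.Agent.Coh69.RpushSections

/-!
A non-trivial translation-invariant class has no cohomology.
-/

set_option autoImplicit false
set_option maxSynthPendingDepth 6
set_option linter.style.haveILetI false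
set_option backward.isDefEq.respectTransparency.types false
universe u

open CategoryTheory CategoryTheory.Limits MonoidalCategory CartesianMonoidalCategory MonObj AlgebraicGeometry
open TopologicalSpace Opposite

noncomputable section

namespace Groth.Agent.AbTI73

open Ampl73 (Pts pt rT)
open AbSquare57 (pb pb_comp pb_cls pb_id)

theorem isFinLocFree_of_isInvertible {Z : Scheme.{u}} {L : Z.Modules} (hL : PicF.IsInvertible L) :
    FlatMod.IsFinLocFree L := fun x => by
  obtain ⟨U, hx, ⟨i⟩⟩ := hL x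
  exact ⟨U, 1, hx, ⟨i ≪≫ (coproductUniqueIso fun _ : Fin 1 => Coh.structureModule (↑U : Scheme.{u})).symm⟩⟩

/-- A coherent module on the spectrum of a field is free, so are its inverse images. -/
theorem exists_freeMod_pullback_of_field {K : Type u} [Field K] (M : (Spec (CommRingCat.of K)).Modules)
    (hM : Coh.IsCoh M) {T : Scheme.{u}} (g : T ⟶ Spec (CommRingCat.of K)) :
    ∃ r, Nonempty ((Scheme.Modules.pullback g).obj M ≅ FlatMod.freeMod T r) ∧
      (r = 0 → Subsingleton Γ(M, ⊤)) := by
  haveI := hM.1; haveI := hM.2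
  let S := Spec (CommRingCat.of K)
  have hU : IsAffineOpen (⊤ : S.Opens) := isAffineOpen_top S
  haveI : Module.Finite Γ(S, ⊤) Γ(M, ⊤) := QC70.finite_sections_of_isFiniteType M hU
  have hf : IsField Γ(S, ⊤) := MulEquiv.isField (Field.toIsField K)
    (Scheme.ΓSpecIso (CommRingCat.of K)).commRingCatIsoToRingEquiv.toMulEquiv
  letI := hf.toField
  haveI : Module.Free Γ(S, ⊤) Γ(M, ⊤) := Module.Free.of_divisionRing _ _
  let b := (Module.finBasis Γ(S, ⊤) Γ(M, ⊤)).equivFun
  obtain ⟨e⟩ := FlatMor68.LocFree.restrict_iso_free M hU _ b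
  let g' : T ⟶ (⊤ : S.Opens).toScheme := g ≫ (Scheme.topIso S).inv
  have hg : g' ≫ (⊤ : S.Opens).ι = g := by simp [g', ← Scheme.topIso_hom]
  obtain ⟨i⟩ := VB30.gen_pullback_free g' (Module.finrank Γ(S, ⊤) Γ(M, ⊤))
  refine ⟨_, ⟨(Scheme.Modules.pullbackCongr hg).symm.app M ≪≫
    ((Scheme.Modules.pullbackComp g' (⊤ : S.Opens).ι).app M).symm ≪≫
    (Scheme.Modules.pullback g').mapIso (((Scheme.Modules.restrictFunctorIsoPullback (⊤ : S.Opens).ι).app M).symm ≪≫ e)
      ≪≫ i⟩, fun h0 => ⟨fun x y => b.injective (funext fun j => absurd j.2 (by omega))⟩⟩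

theorem subsingleton_hh_free_twist {Y : Scheme.{u}} {L : Y.Modules} (h : Subsingleton (Coh.HH Y L 0)) (r : ℕ) :
    Subsingleton (Coh.HH Y (CohB1.tensorMod L (FlatMod.freeMod Y r)) 0) := by
  obtain ⟨i⟩ := VB30.nonempty_tensor_sigma (fun _ : Fin r => Coh.structureModule Y) L
  let i' : CohB1.tensorMod L (FlatMod.freeMod Y r) ≅ ∐ fun _ : Fin r => L :=
    EGA73.tensComm L _ ≪≫ i ≪≫ Sigma.mapIso fun _ => EGA73.tensUnitLeft L
  let i'' := i' ≪≫ (biproduct.isoCoproduct fun _ : Fin r => L).symm
  refine ValVan29.subsingleton_hh_of_iso i''.symm 0 ?_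
  exact QC70.biproduct_induction (fun N => Subsingleton (Coh.HH Y N 0))
    (fun N hN => ValVan29.subsingleton_hh_of_isZero hN 0)
    (fun S hS a c => ValVan29.subsingleton_hh_X₂ hS 0 a c) _ fun _ => h

variable {K : Type u} [Field K] [IsAlgClosed K] {A : Over (Spec (CommRingCat.of K))} [GrpObj A]
  [IsProper A.hom] [GeometricallyIntegral A.hom]

omit [IsAlgClosed K] [IsProper A.hom] [GeometricallyIntegral A.hom] in
theorem cls_sliced (τ : Pts A) (c : AbSquare57.Pic A.left) :
    pb (slice A τ).left (pb (fst A A).left c) = c ∧ pb (slice A τ).left (pb (snd A A).left c) = 1 := by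
  constructor
  · rw [← pb_comp, ← Over.comp_left, slice_fst, Over.id_left, pb_id]
  · rw [← pb_comp, ← Over.comp_left, slice_snd, AbSquare57.pb_const]

omit [GeometricallyIntegral A.hom] in
/-- Cohomology of a pullback from the first factor, in the lowest degree. -/
theorem subsingleton_of_pullback_fst {L : A.left.Modules} (hL : PicF.IsInvertible L) {n : ℕ}
    (hlow : ∀ j, j < n → Subsingleton (Coh.HH A.left L j)) [Nonempty A.left]
    (h : Subsingleton (Coh.HH (A ⊗ A).left ((Scheme.Modules.pullback (fst A A).left).obj L) n)) :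
    Subsingleton (Coh.HH A.left L n) := by
  haveI : IsProper (A ⊗ A).hom := inferInstanceAs (IsProper (pullback.fst A.hom A.hom ≫ A.hom))
  haveI : HasInjectiveResolutions (A ⊗ A).left.Modules := inferInstance
  haveI : IsLocallyNoetherian A.left := LocallyOfFiniteType.isLocallyNoetherian A.hom
  have hN : PicF.IsInvertible ((Scheme.Modules.pullback (fst A A).left).obj L) := PicLoc.isInvertible_pullback _ hL
  have hz : ∀ j, j < n → IsZero ((Coh.Rpush (snd A A).left j).obj ((Scheme.Modules.pullback (fst A A).left).obj L)) :=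
    fun j hj => isZero_rpush_of_forall (X := A) (T := A) hN j fun τ => by
      refine subsingleton_hh_of_cls_eq hL (PicLoc.isInvertible_pullback _ hN) ?_ j (hlow j hj)
      rw [← pb_cls _ hN, ← pb_cls _ hL, (cls_sliced τ _).1]
  obtain ⟨e⟩ := nonempty_hh_low (snd A A).left _ n hz
  have hR := e.symm.toEquiv.subsingleton
  haveI := (Amp73.isCoh_of_isInvertible hL).1
  obtain ⟨bc⟩ := S0033.result A.hom A.hom (fst A A).left (snd A A).left
    (IsPullback.of_hasPullback A.hom A.hom) L n
  obtain ⟨r, ⟨i⟩, hr⟩ := exists_freeMod_pullback_of_field _ (RB70.isCoh_rpush A.hom L (Amp73.isCoh_of_isInvertible hL) n) A.hom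
  have hr0 : r = 0 := by
    by_contra hne
    haveI : Nonempty (⊤ : A.left.Opens) := ⟨⟨Classical.arbitrary A.left, trivial⟩⟩
    let ee := (((sheafSections (Opens.grothendieckTopology A.left) AddCommGrpCat.{u}).obj (op ⊤)).mapIso
        ((SheafOfModules.toSheaf A.left.ringCatSheaf).mapIso (i.symm ≪≫ bc))).addCommGroupIsoToAddEquiv.toEquiv
    haveI : Subsingleton Γ(FlatMod.freeMod A.left r, ⊤) := @Equiv.subsingleton _ _ ee hR
    have e1 := Props58.LocFree.free_eq_of_comb (X := A.left) (n := r) (W := ⊤) (a := 1) (b := 0) (Subsingleton.elim _ _)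
    exact one_ne_zero (α := Γ(A.left, ⊤)) (congrFun e1 ⟨0, Nat.pos_of_ne_zero hne⟩)
  obtain ⟨e'⟩ := Coh69.nonempty_hh_rpushAb_sections A.hom L n
  obtain ⟨c⟩ := S11319.result A.hom L n
  let c' := ((sheafSections (Opens.grothendieckTopology (Spec (CommRingCat.of K))) AddCommGrpCat.{u}).obj (op ⊤)).mapIso c
  exact @Equiv.subsingleton _ _ (e'.trans c'.symm.addCommGroupIsoToAddEquiv).toEquiv (hr hr0)

omit [GeometricallyIntegral A.hom] in
/-- The box square of a class without sections has no cohomology in the lowest degree. -/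
theorem subsingleton_box {L : A.left.Modules} (hL : PicF.IsInvertible L) {n : ℕ}
    (h0 : Subsingleton (Coh.HH A.left L 0)) (hlow : ∀ j, j < n → Subsingleton (Coh.HH A.left L j)) :
    Subsingleton (Coh.HH (A ⊗ A).left (CohB1.tensorMod ((Scheme.Modules.pullback (snd A A).left).obj L)
      ((Scheme.Modules.pullback (fst A A).left).obj L)) n) := by
  haveI : IsProper (A ⊗ A).hom := inferInstanceAs (IsProper (pullback.fst A.hom A.hom ≫ A.hom))
  haveI : IsLocallyNoetherian A.left := LocallyOfFiniteType.isLocallyNoetherian A.hom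
  have h1 : PicF.IsInvertible ((Scheme.Modules.pullback (fst A A).left).obj L) := PicLoc.isInvertible_pullback _ hL
  have h2 : PicF.IsInvertible ((Scheme.Modules.pullback (snd A A).left).obj L) := PicLoc.isInvertible_pullback _ hL
  have hE := EGA73.isInvertible_tensorMod h2 h1
  have hz : ∀ j, j < n → IsZero ((Coh.Rpush (snd A A).left j).obj (CohB1.tensorMod ((Scheme.Modules.pullback (snd A A).left).obj L)
      ((Scheme.Modules.pullback (fst A A).left).obj L))) := fun j hj =>
    isZero_rpush_of_forall (X := A) (T := A) hE j fun τ => by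
      refine subsingleton_hh_of_cls_eq hL (PicLoc.isInvertible_pullback _ hE) ?_ j (hlow j hj)
      rw [← pb_cls _ hE, ← cls_mul_cls' h2 h1, map_mul, ← pb_cls _ hL, ← pb_cls _ hL, (cls_sliced τ _).1,
        (cls_sliced τ _).2, _root_.one_mul]
  obtain ⟨e⟩ := nonempty_hh_low (snd A A).left _ n hz
  obtain ⟨pf⟩ := projection_rpush (snd A A).left ((Scheme.Modules.pullback (fst A A).left).obj L) L
    (isFinLocFree_of_isInvertible hL) n
  haveI := (Amp73.isCoh_of_isInvertible hL).1
  obtain ⟨bc⟩ := S0033.result A.hom A.hom (fst A A).left (snd A A).left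
    (IsPullback.of_hasPullback A.hom A.hom) L n
  obtain ⟨r, ⟨i⟩, -⟩ := exists_freeMod_pullback_of_field _ (RB70.isCoh_rpush A.hom L (Amp73.isCoh_of_isInvertible hL) n) A.hom
  let j := PicGrp.tensorModIso (Iso.refl L) (i.symm ≪≫ bc) ≪≫ pf
  have := ValVan29.subsingleton_hh_of_iso j 0 (subsingleton_hh_free_twist h0 r)
  exact (e.trans (Serre71.hzero _).symm).toEquiv.subsingleton

omit [IsAlgClosed K] [IsProper A.hom] [GeometricallyIntegral A.hom] in
/-- the shear map -/
theorem exists_shear : ∃ σ : A ⊗ A ⟶ A ⊗ A, IsIso σ.left ∧ σ ≫ fst A A = add A := by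
  refine ⟨CartesianMonoidalCategory.lift (add A) (snd A A), ?_, lift_fst _ _⟩
  let τ : A ⊗ A ⟶ A ⊗ A := CartesianMonoidalCategory.lift (fst A A * (snd A A)⁻¹) (snd A A)
  have e1 : CartesianMonoidalCategory.lift (add A) (snd A A) ≫ τ = 𝟙 _ := by
    rw [CartesianMonoidalCategory.comp_lift, MonObj.comp_mul, GrpObj.comp_inv, lift_fst, lift_snd, add,
      _root_.mul_inv_cancel_right, lift_fst_snd]
  have e2 : τ ≫ CartesianMonoidalCategory.lift (add A) (snd A A) = 𝟙 _ := by
    rw [CartesianMonoidalCategory.comp_lift, add, MonObj.comp_mul, lift_fst, lift_snd,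
      _root_.inv_mul_cancel_right, lift_fst_snd]
  exact ⟨⟨τ.left, by rw [← Over.comp_left, e1]; rfl, by rw [← Over.comp_left, e2]; rfl⟩⟩

/-- A non-trivial translation-invariant class has no sections. -/
theorem subsingleton_h0_of_isTI {L : A.left.Modules} (hL : PicF.IsInvertible L)
    (hTI : IsTI (PicGrp.cls L hL)) (hne : PicGrp.cls L hL ≠ 1) : Subsingleton (Coh.HH A.left L 0) := by
  haveI := Ampl73.isIntegral_left (A := A)
  by_contra hs
  have hi : IsIso ((𝟙 A)⁻¹ : A ⟶ A).left := AbDeg57.isIso_inv_left (A := A)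
  haveI : L.IsQuasicoherent := (Amp73.isCoh_of_isInvertible hL).1
  have hs' : ¬ Subsingleton (Coh.HH A.left ((Scheme.Modules.pullback ((𝟙 A)⁻¹ : A ⟶ A).left).obj L) 0) :=
    fun h => hs ((ASB64.subsingleton_hh_pullback_iso _ L 0).1 h)
  obtain ⟨s, hs1⟩ := exists_hom_ne_zero hs
  obtain ⟨s', hs2⟩ := exists_hom_ne_zero hs'
  have hinv := pb_inv_of_isTI hTI (𝟙 A)
  rw [Over.id_left, pb_id, pb_cls, eq_inv_iff_mul_eq_one, _root_.mul_comm, PicGrp.cls_mul_cls_eq_one_iff] at hinv
  obtain ⟨e⟩ := hinv
  exact hne ((PicGrp.cls_eq_one_iff hL).2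
    (iso_of_inverse_sections A.hom hL (PicLoc.isInvertible_pullback _ hL) e hs1 hs2))

/-- Mumford's vanishing theorem. -/
theorem vanishingTI : VanishingTI A := by
  intro L hL hTI hne n
  haveI := Ampl73.isIntegral_left (A := A)
  have h0 := subsingleton_h0_of_isTI hL hTI hne
  induction n using Nat.strong_induction_on with
  | _ n ih =>
    obtain ⟨σ, hσ, hσf⟩ := exists_shear (A := A)
    have h1 : PicF.IsInvertible ((Scheme.Modules.pullback (fst A A).left).obj L) := PicLoc.isInvertible_pullback _ hL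
    have h2 : PicF.IsInvertible ((Scheme.Modules.pullback (snd A A).left).obj L) := PicLoc.isInvertible_pullback _ hL
    haveI : ((Scheme.Modules.pullback (fst A A).left).obj L).IsQuasicoherent := (Amp73.isCoh_of_isInvertible h1).1
    refine subsingleton_of_pullback_fst hL ih ((ASB64.subsingleton_hh_pullback_iso σ.left _ n).1 ?_)
    refine subsingleton_hh_of_cls_eq (EGA73.isInvertible_tensorMod h2 h1) (PicLoc.isInvertible_pullback _ h1) ?_ n
      (subsingleton_box hL h0 ih)
    rw [← cls_mul_cls' h2 h1, ← pb_cls _ h1, ← pb_cls _ hL, ← pb_cls _ hL, ← pb_comp, ← Over.comp_left, hσf, add,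
      pb_mul_of_isTI hTI, _root_.mul_comm]

end Groth.Agent.AbTI73
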