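import Groth.Agent.EGA73.MorDetNorm
import Groth.Agent.AbTI73.Mumford
import Groth.Agent.CAlg8.Canon.Basic
import Groth.Agent.VB30.Torsor
import Groth.Agent.QC70.PushFinite
import Groth.Agent.Props58.LocFree.Basis

/-!
The direct image of the structure sheaf along an isogeny becomes free after pullback.
-/

set_option autoImplicit false
set_option maxSynthPendingDepth 6
set_option linter.style.haveILetI false
set_option backward.isDefEq.respectTransparency.types false
universe u

open CategoryTheory CategoryTheory.Limits MonoidalCategory CartesianMonoidalCategory MonObj AlgebraicGeometry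
open TopologicalSpace

noncomputable section

namespace Groth.Agent.AbTI73

open Props58.LocFree

/-- The direct image of the structure sheaf along a finite flat morphism of constant rank. -/
theorem isFinLocFreeOfRank_push {X Y : Scheme.{u}} (π : X ⟶ Y) [IsFinite π] [Flat π]
    [LocallyOfFinitePresentation π] (d : ℕ) (hd : ∀ y : Y, π.finrank y = d) :
    FlatMod.IsFinLocFreeOfRank d ((Coh.push π).obj (Coh.structureModule X)) := fun y => by
  obtain ⟨U, n, hy, ⟨e⟩⟩ := EGA73.isFinLocFree_push π y
  obtain ⟨s, hs⟩ := exists_stalkBasis_of_iso e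
  obtain ⟨V, hV, hyV, hVU⟩ := exists_isAffineOpen_mem_and_subset hy
  have h : EGA73.NatBasis π s := fun W hW => hs.bijective hW
  have hn := EGA73.finrank_eq_of_natBasis π hV (h.res π hVU) hyV
  rw [hd y] at hn
  subst hn
  exact ⟨U, hy, ⟨e⟩⟩

/-- The rank of a locally free module on a non-empty scheme is unique. -/
theorem rank_eq_of_isFinLocFreeOfRank {X : Scheme.{u}} [Nonempty X] {M : X.Modules} {m n : ℕ}
    (hm : FlatMod.IsFinLocFreeOfRank m M) (hn : FlatMod.IsFinLocFreeOfRank n M) : m = n := by
  obtain ⟨x⟩ := ‹Nonempty X›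
  obtain ⟨U, hU, ⟨e⟩⟩ := hm x
  obtain ⟨V, hV, ⟨e'⟩⟩ := hn x
  obtain ⟨s, hs⟩ := exists_stalkBasis_of_iso e
  obtain ⟨t, ht⟩ := exists_stalkBasis_of_iso e'
  exact (hs.fiberRank_eq x hU).symm.trans (ht.fiberRank_eq x hV)

variable {K : Type u} [Field K] {X Y : Over (Spec (CommRingCat.of K))} [GrpObj X] [GrpObj Y]

/-- The two descriptions of the fibre square of a homomorphism. -/
theorem isPullback_kernel (f : X ⟶ Y) [IsMonHom f] :
    IsPullback (fst X (pullback f η[Y])) (fst X (pullback f η[Y]) * (snd X (pullback f η[Y]) ≫ pullback.fst f η[Y]))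
      f f := by
  have hι : ∀ {T : Over (Spec (CommRingCat.of K))} (u : T ⟶ pullback f η[Y]),
      (u ≫ pullback.fst f η[Y]) ≫ f = 1 := fun {T} u => by
    rw [Category.assoc, pullback.condition, ← Category.assoc, toUnit_unique (u ≫ pullback.snd f η[Y]) (toUnit T)]
    rfl
  refine IsPullback.of_isLimit' ⟨?_⟩ (PullbackCone.IsLimit.mk _ (fun s =>
    CartesianMonoidalCategory.lift s.fst (pullback.lift (s.fst⁻¹ * s.snd) (toUnit s.pt) ?_)) ?_ ?_ ?_)
  · rw [MonObj.mul_comp, hι, _root_.mul_one]
  · rw [MonObj.mul_comp, GrpObj.inv_comp, s.condition, _root_.inv_mul_cancel]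
    rfl
  · intro s
    exact lift_fst _ _
  · intro s
    rw [MonObj.comp_mul, lift_fst, lift_snd_assoc, pullback.lift_fst, _root_.mul_inv_cancel_left]
  · intro s m h1 h2
    refine CartesianMonoidalCategory.hom_ext _ _ (by rw [lift_fst, h1]) (pullback.hom_ext ?_ (toUnit_unique _ _))
    rw [lift_snd, pullback.lift_fst, ← h2, MonObj.comp_mul, h1, _root_.inv_mul_cancel_left, Category.assoc]

variable [IsProper X.hom] [GeometricallyIntegral X.hom]

/-- The inverse image of the direct image of the structure sheaf along an isogeny is free. -/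
theorem nonempty_pullback_push_free (f : X ⟶ Y) [IsMonHom f] [IsFinite f.left] [Flat f.left]
    [LocallyOfFinitePresentation f.left] (d : ℕ) (hd : ∀ y : Y.left, f.left.finrank y = d) :
    Nonempty ((Scheme.Modules.pullback f.left).obj ((Coh.push f.left).obj (Coh.structureModule X.left)) ≅
      FlatMod.freeMod X.left d) := by
  haveI : IsIntegral X.left := GeometricallyIntegral.isIntegral_of_subsingleton X.hom
  let G := pullback f η[Y]
  have hη : IsPullback (pullback.fst f η[Y]).left (pullback.snd f η[Y]).left f.left η[Y].left :=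
    (IsPullback.of_hasPullback f η[Y]).map (Over.forget _)
  haveI : IsFinite G.hom := by
    rw [← Over.w (pullback.snd f η[Y])]
    haveI : IsFinite (pullback.snd f η[Y]).left := MorphismProperty.of_isPullback hη inferInstance
    haveI : IsIso (𝟙_ (Over (Spec (CommRingCat.of K)))).hom := inferInstanceAs (IsIso (𝟙 _))
    infer_instance
  have H : IsPullback (fst X G).left (fst X G * (snd X G ≫ pullback.fst f η[Y])).left f.left f.left :=
    (isPullback_kernel f).map (Over.forget _)
  obtain ⟨e₁⟩ := VB30.nonempty_pullback_push_unit H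
  have H2 : IsPullback (fst X G).left (snd X G).left X.hom G.hom :=
    IsPullback.of_hasPullback X.hom G.hom
  obtain ⟨e₂⟩ := VB30.nonempty_pullback_push_unit H2
  haveI : IsLocallyNoetherian G.left := LocallyOfFiniteType.isLocallyNoetherian G.hom
  obtain ⟨r, ⟨e₃⟩, -⟩ := exists_freeMod_pullback_of_field _
    (QC70.isCoh_pushforward_of_isFinite G.hom _ (QC70.isCoh_unit (X := G.left))) X.hom
  let e := e₁ ≪≫ e₂.symm ≪≫ e₃
  have hr : FlatMod.IsFinLocFreeOfRank r (FlatMod.freeMod X.left r) := fun x =>
    ⟨⊤, trivial, ⟨(Scheme.Modules.restrictFunctorIsoPullback _).app _ ≪≫ (VB30.gen_pullback_free _ r).some⟩⟩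
  have hd' := CAlg8.Canon.isFinLocFreeOfRank_pullback f.left (isFinLocFreeOfRank_push f.left d hd)
  have : d = r := rank_eq_of_isFinLocFreeOfRank hd' fun x => by
    obtain ⟨U, hU, ⟨i⟩⟩ := hr x
    exact ⟨U, hU, ⟨(Scheme.Modules.restrictFunctor U.ι).mapIso e ≪≫ i⟩⟩
  exact ⟨this ▸ e⟩

end Groth.Agent.AbTI73
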