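import Groth.Agent.AbTI73.Bridge
import Groth.Agent.AbTI73.Vanish

/-!
Surjectivity of the map of a non-degenerate class onto the translation-invariant classes, given that
non-trivial translation-invariant classes have no cohomology.
-/

set_option autoImplicit false
set_option maxSynthPendingDepth 6
set_option linter.style.haveILetI false
set_option backward.isDefEq.respectTransparency.types false
universe u

open CategoryTheory CategoryTheory.Limits MonoidalCategory CartesianMonoidalCategory MonObj AlgebraicGeometry
open TopologicalSpace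

noncomputable section

namespace Groth.Agent.AbTI73

open Ampl73 (Pts pt rT)
open AbSquare57 (pb pb_comp pb_cls pb_id)

theorem subsingleton_hh_of_cls_eq {Y : Scheme.{u}} {L M : Y.Modules} (hL : PicF.IsInvertible L)
    (hM : PicF.IsInvertible M) (h : PicGrp.cls L hL = PicGrp.cls M hM) (q : ℕ)
    (hs : Subsingleton (Coh.HH Y L q)) : Subsingleton (Coh.HH Y M q) :=
  ((PicGrp.cls_eq_cls_iff hL hM).1 h).elim fun e => ValVan29.subsingleton_hh_of_iso e q hs

theorem not_subsingleton_hh_zero_structureModule (Y : Scheme.{u}) [Nonempty Y] :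
    ¬ Subsingleton (Coh.HH Y (Coh.structureModule Y) 0) := by
  intro h
  haveI : Nonempty (⊤ : Y.Opens) := ⟨⟨Classical.arbitrary Y, trivial⟩⟩
  have : Subsingleton Γ(Y, ⊤) := (Serre71.hzero (Coh.structureModule Y)).symm.toEquiv.subsingleton
  exact one_ne_zero (α := Γ(Y, ⊤)) (Subsingleton.elim _ _)

variable {K : Type u} [Field K] [IsAlgClosed K] {A : Over (Spec (CommRingCat.of K))} [GrpObj A]

omit [IsAlgClosed K] in
theorem IsTI.div {c d : AbSquare57.Pic A.left} (hc : IsTI c) (hd : IsTI d) : IsTI (c / d) := fun a => by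
  rw [map_div, hc a, hd a]

/-- Non-trivial translation-invariant classes have no cohomology. -/
def VanishingTI (A : Over (Spec (CommRingCat.of K))) [GrpObj A] : Prop :=
  ∀ (L : A.left.Modules) (hL : PicF.IsInvertible L), IsTI (PicGrp.cls L hL) → PicGrp.cls L hL ≠ 1 →
    ∀ q, Subsingleton (Coh.HH A.left L q)

variable [IsProper A.hom] [GeometricallyIntegral A.hom]

omit [GrpObj A] [IsAlgClosed K] [IsProper A.hom] [GeometricallyIntegral A.hom] in
/-- the exchange of the factors -/
def swap (A : Over (Spec (CommRingCat.of K))) : A ⊗ A ⟶ A ⊗ A :=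
  CartesianMonoidalCategory.lift (snd A A) (fst A A)

omit [GrpObj A] [IsAlgClosed K] [IsProper A.hom] [GeometricallyIntegral A.hom] in
theorem isIso_swap : IsIso (swap A).left := by
  have : swap A ≫ swap A = 𝟙 _ := by
    rw [swap, CartesianMonoidalCategory.comp_lift, lift_fst, lift_snd, lift_fst_snd]
  exact ⟨⟨(swap A).left, by rw [← Over.comp_left, this]; rfl, by rw [← Over.comp_left, this]; rfl⟩⟩

/-- A non-degenerate class reaches every translation-invariant class. -/
theorem exists_phi_eq (hvan : VanishingTI A) {c : AbSquare57.Pic A.left}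
    (hc : {a : Pts A | pb (rT a).left c = c}.Finite) {m : AbSquare57.Pic A.left} (hm : IsTI m) :
    ∃ x : Pts A, phi c x = m := by
  by_contra hne
  push Not at hne
  have := comm_A (A := A)
  have : IsProper (A ⊗ A).hom :=
    inferInstanceAs (IsProper (pullback.fst A.hom A.hom ≫ A.hom))
  obtain ⟨E, hE, hEq⟩ := PicGrp.exists_eq_cls (lam c / pb (fst A A).left m)
  have hsl : ∀ x : Pts A, pb (slice A x).left (PicGrp.cls E hE) = phi c x / m := fun x => by
    rw [← hEq, map_div, pb_slice_lam, ← pb_comp, ← Over.comp_left, slice_fst, Over.id_left, pb_id]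
  have hv1 : ∀ x, SliceVan (X := A) E x := fun x => by
    refine hvan _ (PicLoc.isInvertible_pullback _ hE) ?_ ?_
    · rw [← pb_cls _ hE, hsl]; exact (isTI_phi c x).div hm
    · rw [← pb_cls _ hE, hsl]; exact fun h => hne x (div_eq_one.1 h)
  have h0 := subsingleton_hh_of_forall_sliceVan hE hv1
  let E' := (Scheme.Modules.pullback (swap A).left).obj E
  have hE' : PicF.IsInvertible E' := PicLoc.isInvertible_pullback _ hE
  have hsl' : ∀ x : Pts A, pb (slice A x).left (PicGrp.cls E' hE') = phi c x := fun x => by
    have e : slice A x ≫ swap A = CartesianMonoidalCategory.lift (toUnit A ≫ x) (𝟙 A) := by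
      rw [swap, CartesianMonoidalCategory.comp_lift, slice_fst, slice_snd]
    rw [← pb_cls _ hE, ← hEq, ← pb_comp, ← Over.comp_left, e, map_div, ← pb_comp, ← Over.comp_left,
      lift_fst, pb_lift_lam, AbSquare57.pb_const, AbSquare57.pb_const, Over.id_left, pb_id,
      _root_.one_mul, div_one, _root_.mul_comm (toUnit A ≫ x) (𝟙 A)]
    rfl
  have hv2 : ∀ x ∉ {a : Pts A | pb (rT a).left c = c}, SliceVan (X := A) E' x := fun x hx => by
    refine hvan _ (PicLoc.isInvertible_pullback _ hE') ?_ ?_
    · rw [← pb_cls _ hE', hsl']; exact isTI_phi c x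
    · rw [← pb_cls _ hE', hsl']; exact fun h => hx (div_eq_one.1 h)
  have h0' : ∀ q, Subsingleton (Coh.HH (A ⊗ A).left E' q) := fun q => by
    have := isIso_swap (A := A)
    haveI : E.IsQuasicoherent := (Amp73.isCoh_of_isInvertible hE).1
    exact (ASB64.subsingleton_hh_pullback_iso (swap A).left E q).2 (h0 q)
  have hz := subsingleton_slice_zero hE' hc hv2 h0' (1 : Pts A)
  haveI := Ampl73.isIntegral_left (A := A)
  refine not_subsingleton_hh_zero_structureModule A.left ?_
  refine subsingleton_hh_of_cls_eq (PicLoc.isInvertible_pullback _ hE') (PicLoc.isInvertible_structureModule _) ?_ 0 hz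
  rw [← pb_cls _ hE', hsl', phi_one]
  exact PicGrp.cls_structureModule_eq_one.symm

end Groth.Agent.AbTI73
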