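import Groth.Agent.AbTI73.IndexField
import Groth.Agent.CD47.NegPow

/-!
A non-degenerate invertible module kills coherent cohomology above its index, asymptotically.
-/

set_option autoImplicit false
set_option maxSynthPendingDepth 6
set_option linter.style.haveILetI false
set_option backward.isDefEq.respectTransparency.types false
universe u

open CategoryTheory CategoryTheory.Limits MonoidalCategory CartesianMonoidalCategory MonObj AlgebraicGeometry
open TopologicalSpace

noncomputable section

namespace Groth.Agent.AbTI73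

open Ampl73 (Pts pt rT)
open AbSquare57 (pb pb_comp pb_cls pb_id)
open Var76.Growth (hi w CloseH)

theorem lt_of_pow_le_mul_w {g m D : ℕ} (hm : 1 ≤ m) (h : m ^ g ≤ D * w g m) : m ≤ D * 2 ^ g := by
  rcases g with _ | g
  · simp [w] at h
  · have h3 : (m + 1) ^ g ≤ 2 ^ g * m ^ g := by
      rw [← mul_pow]; exact Nat.pow_le_pow_left (by omega) _
    have h4 : m ^ g * m ≤ m ^ g * (D * 2 ^ g) := by
      rw [← pow_succ]
      refine h.trans ((Nat.mul_le_mul_left D h3).trans (le_of_eq ?_))
      ring
    exact (Nat.le_of_mul_le_mul_left h4 (pow_pos (by omega) _)).trans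
      (Nat.mul_le_mul_left D (Nat.pow_le_pow_right two_pos (Nat.le_succ g)))

variable {K : Type u} [Field K] [IsAlgClosed K] {A : Over (Spec (CommRingCat.of K))} [GrpObj A] [IsProper A.hom]
  [GeometricallyIntegral A.hom]

/-- A fixed twist of high powers of a non-degenerate module has the same index. -/
theorem exists_vanish_twist {g : ℕ} (hg : topologicalKrullDim A.left = g) {L : A.left.Modules}
    (hL : PicF.IsInvertible L) {i : ℕ} (hc : Conc L i) {T : A.left.Modules} (hT : PicF.IsInvertible T) :
    ∃ m₀, ∀ m, m₀ ≤ m → ∀ j, j ≠ i → Subsingleton (Coh.HH A.left (CohB1.tensorMod T (CohB1.tensorPow L m)) j) := by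
  classical
  letI : A.left.Over (Spec (CommRingCat.of K)) := ⟨A.hom⟩
  haveI : IsProper (A.left ↘ Spec (CommRingCat.of K)) := ‹IsProper A.hom›
  haveI : IsIntegral A.left := GeometricallyIntegral.isIntegral_of_subsingleton A.hom
  haveI : IsLocallyNoetherian A.left := LocallyOfFiniteType.isLocallyNoetherian A.hom
  have hig : i ≤ g := Nat.le_of_not_lt fun h => hc.2 (subsingleton_hh_above hg L i h)
  have hfin := finite_fixing_of_conc hL hc
  have hpos : 0 < Module.finrank K (Coh.HH A.left L i) := Nat.pos_of_ne_zero fun h =>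
    hc.2 ((subsingleton_hh_iff_finrank K (Amp73.isCoh_of_isInvertible hL) i).2 h)
  set O := Coh.structureModule A.left
  have hO : Coh.IsCoh O := QC70.isCoh_unit
  haveI := hO.1
  have hOT : Coh.IsCoh (CohB1.tensorMod O T) := Amp73.isCoh_tensorMod hO (Amp73.isCoh_of_isInvertible hT)
  obtain ⟨e⟩ := Snapper75.nonempty_stalk_twist O hT (genericPoint A.left)
  choose C hC using fun i => Var76.Growth.close_of_stalk_equiv K hL hOT hO hg.le e i
  let D := (Finset.range (g + 1)).sup C
  refine ⟨(g + 1) * D * 2 ^ g + 1, fun m hm => ?_⟩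
  have hm1 : 1 ≤ m := by omega
  have hn := EGA73.isInvertible_tensorPow hL m
  let N := CohB1.tensorMod T (CohB1.tensorPow L m)
  have hN : PicF.IsInvertible N := EGA73.isInvertible_tensorMod hT hn
  have hh : ∀ j, hi K j L O m = Module.finrank K (Coh.HH A.left (CohB1.tensorPow L m) j) := fun j =>
    (Crv77.hEquiv K (EGA73.tensUnitLeft (CohB1.tensorPow L m)) j).finrank_eq
  have hh' : ∀ j, hi K j L (CohB1.tensorMod O T) m = Module.finrank K (Coh.HH A.left N j) := fun j =>
    Var76.Growth.hi_congr K j L (EGA73.tensUnitLeft T) m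
  obtain ⟨hiff, heul⟩ := index_tensorPow hg hL hfin m hm1
  have hsmall : ∀ j, j ≤ g → j ≠ i → Module.finrank K (Coh.HH A.left N j) ≤ D * w g m := fun j hjg hj => by
    haveI := (hiff j).1 (hc.1 j hj)
    have h1 := ((hC j) m).1
    rw [hh', hh, Module.finrank_zero_of_subsingleton (R := K) (M := Coh.HH A.left (CohB1.tensorPow L m) j),
      zero_add] at h1
    exact h1.trans (Nat.mul_le_mul_right _ (Finset.le_sup (Finset.mem_range.2 (by omega))))
  have hbig : m ^ g ≤ Module.finrank K (Coh.HH A.left N i) + D * w g m := by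
    have h1 := ((hC i) m).2
    rw [hh', hh, ← natAbs_euler_of_concentrated K (fun j hj => (hiff j).1 (hc.1 j hj)), heul, Int.natAbs_mul,
      Int.natAbs_pow, Int.natAbs_natCast, natAbs_euler_of_concentrated K hc.1] at h1
    exact (Nat.le_mul_of_pos_right _ hpos).trans (h1.trans (Nat.add_le_add_left (Nat.mul_le_mul_right _
      (Finset.le_sup (Finset.mem_range.2 (by omega)))) _))
  have hnot : ¬ m ^ g ≤ (g + 1) * D * w g m := fun h => by
    have := lt_of_pow_le_mul_w hm1 h
    omega
  have hfinN : {a : Pts A | pb (rT a).left (PicGrp.cls N hN) = PicGrp.cls N hN}.Finite := by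
    by_contra hinf
    have he := euler_eq_zero_of_infinite hN hinf
    rw [Curv2.euler, finsum_eq_sum_of_support_subset _ (s := Finset.range (g + 1)) ?_,
      ← Finset.add_sum_erase _ _ (Finset.mem_range.2 (by omega : i < g + 1))] at he
    · refine hnot (hbig.trans ?_)
      have h2 : Module.finrank K (Coh.HH A.left N i) ≤ g * (D * w g m) := by
        have h3 := congrArg Int.natAbs (eq_neg_of_add_eq_zero_left he)
        rw [Int.natAbs_neg, Int.natAbs_mul, Int.natAbs_pow, Int.natAbs_neg, Int.natAbs_one, one_pow,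
          _root_.one_mul, Int.natAbs_natCast] at h3
        rw [h3]
        refine (Int.natAbs_sum_le _ _).trans ((Finset.sum_le_card_nsmul _ _ (D * w g m) fun j hj => ?_).trans ?_)
        · rw [Int.natAbs_mul, Int.natAbs_pow, Int.natAbs_neg, Int.natAbs_one, one_pow, _root_.one_mul,
            Int.natAbs_natCast]
          obtain ⟨hne, hj'⟩ := Finset.mem_erase.1 hj
          exact hsmall j (by have := Finset.mem_range.1 hj'; omega) hne
        · rw [Finset.card_erase_of_mem (Finset.mem_range.2 (by omega : i < g + 1)), Finset.card_range, smul_eq_mul,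
            Nat.add_sub_cancel]
      refine (Nat.add_le_add_right h2 _).trans (le_of_eq ?_)
      ring
    · intro j hj
      rw [Finset.coe_range, Set.mem_Iio]
      by_contra hlt
      haveI := subsingleton_hh_above hg N j (by omega)
      exact hj (by simp [Module.finrank_zero_of_subsingleton])
  obtain ⟨i', -, hv, hne⟩ := exists_index hg hN hfinN
  intro j hj
  refine hv j fun hji => ?_
  haveI := hv i fun h => hj (hji.trans h.symm)
  rw [Module.finrank_zero_of_subsingleton, zero_add] at hbig
  exact hnot (hbig.trans (Nat.mul_le_mul_right _ (Nat.le_mul_of_pos_left _ (by omega))))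

/-- Coherent modules twisted by high powers have no cohomology above the index. -/
theorem exists_vanish_above {L : A.left.Modules} (hL : PicF.IsInvertible L) {i : ℕ} (hc : Conc L i) :
    ∀ (F : A.left.Modules), Coh.IsCoh F → ∀ j, i < j →
      ∃ m₀, ∀ m, m₀ ≤ m → Subsingleton (Coh.HH A.left (CohB1.tensorMod F (CohB1.tensorPow L m)) j) := by
  classical
  obtain ⟨g, hg⟩ := exists_dim_nat (A := A)
  haveI : IsLocallyNoetherian A.left := LocallyOfFiniteType.isLocallyNoetherian A.hom
  haveI : CompactSpace A.left := QuasiCompact.compactSpace_of_compactSpace A.hom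
  obtain ⟨H, hH⟩ := AbDeg57.exists_isAmple A
  obtain ⟨H', hH', ⟨eH⟩⟩ := An92.InvMod.exists_inverse hH.1
  suffices h : ∀ d, ∀ (F : A.left.Modules), Coh.IsCoh F → ∀ j, i < j → g + 1 ≤ j + d →
      ∃ m₀, ∀ m, m₀ ≤ m → Subsingleton (Coh.HH A.left (CohB1.tensorMod F (CohB1.tensorPow L m)) j) from
    fun F hF j hj => h (g + 1) F hF j hj (by omega)
  intro d
  induction d with
  | zero => exact fun F hF j hj hd => ⟨0, fun m _ => subsingleton_hh_above hg _ j (by omega)⟩
  | succ d ih =>
    intro F hF j hj hd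
    obtain ⟨c, a, P, π, hP, hfree, hπ⟩ := CD47.exists_epi_negPow hH (M := H') ⟨eH⟩ 0 F hF
    have hinv : ∀ l, PicF.IsInvertible (P l) := fun l =>
      (hP l).2.elim fun e => EGA73.isInvertible_of_iso e.symm (EGA73.isInvertible_tensorPow hH' _)
    have hPc : Coh.IsCoh (⨁ P) := QC70.isCoh_biproduct _ fun l => Amp73.isCoh_of_isInvertible (hinv l)
    let S := ShortComplex.mk (kernel.ι π) π (kernel.condition π)
    have hS : S.ShortExact := ShortComplex.ShortExact.mk'
      (ShortComplex.exact_of_f_is_kernel _ (kernelIsKernel π)) inferInstance hπ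
    have hK : Coh.IsCoh S.X₁ := QC70.isCoh_kernel π hPc hF.1
    obtain ⟨m₁, h₁⟩ := ih S.X₁ hK (j + 1) (by omega) (by omega)
    choose mP hmP using fun l => exists_vanish_twist hg hL hc (hinv l)
    refine ⟨max m₁ (Finset.univ.sup mP), fun m hm => ?_⟩
    have hn := EGA73.isInvertible_tensorPow hL m
    obtain ⟨T, hT, e₁, e₂, e₃⟩ := Crv77.shortExact_twist (Mero90.isFinLocFreeOfRank_of_isInvertible hn) hS
    have hX₂ : Subsingleton (Coh.HH A.left (CohB1.tensorMod (⨁ P) (CohB1.tensorPow L m)) j) := by
      refine QC70.biproduct_induction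
        (fun M => Subsingleton (Coh.HH A.left (CohB1.tensorMod M (CohB1.tensorPow L m)) j))
        (fun M hM => ValVan29.subsingleton_hh_of_isZero (ValVan29.isZero_tensorMod hM hn) j)
        (fun S hS a b => ?_) P fun l => hmP l m ?_ j (by omega)
      · obtain ⟨T, hT, e₁, e₂, e₃⟩ := Crv77.shortExact_twist (Mero90.isFinLocFreeOfRank_of_isInvertible hn) hS
        rw [← e₂]
        exact ValVan29.subsingleton_hh_X₂ hT j (e₁ ▸ a) (e₃ ▸ b)
      · exact le_trans (Finset.le_sup (Finset.mem_univ l)) (le_trans (le_max_right _ _) hm)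
    rw [← e₂] at hX₂
    have h3 := ValVan29.subsingleton_hh_X₃ hT j hX₂ (e₁ ▸ h₁ m (le_trans (le_max_left _ _) hm))
    rwa [e₃] at h3

omit [GeometricallyIntegral A.hom] [GrpObj A] [IsProper A.hom] [IsAlgClosed K] in
theorem conc_box {B : Over (Spec (CommRingCat.of K))} [IsProper A.hom] [IsProper B.hom]
    {L : A.left.Modules} {N : B.left.Modules} (hL : PicF.IsInvertible L) (hN : PicF.IsInvertible N) {a b : ℕ}
    (hLa : Conc L a) (hNb : Conc N b) :
    Conc (X := (A ⊗ B).left) (CohB1.tensorMod ((Scheme.Modules.pullback (fst A B).left).obj L)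
      ((Scheme.Modules.pullback (snd A B).left).obj N)) (a + b) := by
  have h := AbVanish7.subsingleton_HH_extTensor A.hom B.hom L (Amp73.isCoh_of_isInvertible hL).1 N
    (Amp73.isCoh_of_isInvertible hN).1
  refine ⟨fun n hn => (h n).2 fun p q hpq => ?_, fun hs => ((h (a + b)).1 hs a b rfl).elim hLa.2 hNb.2⟩
  by_cases hpa : p = a
  · exact Or.inr (hNb.1 q (by omega))
  · exact Or.inl (hLa.1 p hpa)

/-- The index is subadditive. -/
theorem index_le_add {L₁ L₂ M : A.left.Modules} (hL₁ : PicF.IsInvertible L₁) (hL₂ : PicF.IsInvertible L₂)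
    (hM : PicF.IsInvertible M) (hcls : PicGrp.cls L₁ hL₁ * PicGrp.cls L₂ hL₂ = PicGrp.cls M hM)
    {i₁ i₂ i : ℕ} (h₁ : Conc L₁ i₁) (h₂ : Conc L₂ i₂) (h : Conc M i) : i ≤ i₁ + i₂ := by
  by_contra hlt
  haveI : IsProper (A ⊗ A).hom := inferInstanceAs (IsProper (pullback.fst A.hom A.hom ≫ A.hom))
  haveI : GeometricallyIntegral (A ⊗ A).hom := Alb96.geometricallyIntegral_tensor A A
  have hp₁ : PicF.IsInvertible ((Scheme.Modules.pullback (fst A A).left).obj L₁) := PicLoc.isInvertible_pullback _ hL₁
  have hp₂ : PicF.IsInvertible ((Scheme.Modules.pullback (snd A A).left).obj L₂) := PicLoc.isInvertible_pullback _ hL₂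
  let L := CohB1.tensorMod ((Scheme.Modules.pullback (fst A A).left).obj L₁)
    ((Scheme.Modules.pullback (snd A A).left).obj L₂)
  have hL : PicF.IsInvertible L := EGA73.isInvertible_tensorMod hp₁ hp₂
  let Δ : A ⟶ A ⊗ A := CartesianMonoidalCategory.lift (𝟙 A) (𝟙 A)
  haveI : IsClosedImmersion Δ.left := by
    have : IsClosedImmersion (Δ.left ≫ (fst A A).left) := by
      rw [← Over.comp_left, lift_fst, Over.id_left]; infer_instance
    haveI : IsSeparated (fst A A).left := inferInstanceAs (IsSeparated (pullback.fst A.hom A.hom))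
    exact IsClosedImmersion.of_comp Δ.left (fst A A).left
  haveI : IsLocallyNoetherian A.left := LocallyOfFiniteType.isLocallyNoetherian A.hom
  haveI : IsLocallyNoetherian (A ⊗ A).left := LocallyOfFiniteType.isLocallyNoetherian (A ⊗ A).hom
  have hF : Coh.IsCoh ((Coh.push Δ.left).obj (Coh.structureModule A.left)) :=
    QC70.isCoh_pushforward_of_isFinite Δ.left _ QC70.isCoh_unit
  obtain ⟨m₀, hm₀⟩ := exists_vanish_above hL (conc_box hL₁ hL₂ h₁ h₂) _ hF i (by omega)
  let m := m₀ + 1
  have hn := EGA73.isInvertible_tensorPow hL m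
  haveI : (CohB1.tensorPow L m).IsQuasicoherent := (Amp73.isCoh_of_isInvertible hn).1
  haveI : (Coh.structureModule A.left).IsQuasicoherent := (QC70.isCoh_unit (X := A.left)).1
  obtain ⟨p⟩ := CurveDeg75.nonempty_projIso Δ.left (Coh.structureModule A.left) (E := CohB1.tensorPow L m)
  let N := CohB1.tensorMod (Coh.structureModule A.left) ((Scheme.Modules.pullback Δ.left).obj (CohB1.tensorPow L m))
  have hN : PicF.IsInvertible N :=
    EGA73.isInvertible_tensorMod EGA73.isInvertible_structureModule (PicLoc.isInvertible_pullback _ hn)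
  haveI : N.IsQuasicoherent := (Amp73.isCoh_of_isInvertible hN).1
  obtain ⟨ηp⟩ := Coh69.nonempty_hh_push Δ.left N i
  haveI := ValVan29.subsingleton_hh_of_iso p i (hm₀ m (by omega))
  have hzero : Subsingleton (Coh.HH A.left N i) := ηp.toEquiv.subsingleton
  refine (conc_tensorPow hM h m (by omega)).2
    (ValVan29.subsingleton_hh_of_iso (EGA73.tensUnitLeft _ ≪≫ ?_) i hzero)
  refine Nonempty.some ((pb_eq_cls_iff Δ.left hn (EGA73.isInvertible_tensorPow hM m)).1 ?_)
  rw [cls_tensorPow hL, cls_tensorPow hM, map_pow, ← hcls, ← cls_mul_cls' hp₁ hp₂, map_mul,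
    ← pb_cls _ hL₁, ← pb_cls _ hL₂, ← pb_comp, ← pb_comp, ← Over.comp_left, ← Over.comp_left, lift_fst,
    lift_snd, Over.id_left, pb_id, pb_id]

end Groth.Agent.AbTI73

end
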