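import Groth.Agent.Ampl73.Rigid
import Groth.Agent.Cube7.FibreClosed

/-!
The seesaw principle for products over an algebraically closed field, in terms of rational points.
-/

set_option autoImplicit false
set_option maxSynthPendingDepth 6
set_option backward.isDefEq.respectTransparency.types false
universe u

open CategoryTheory CategoryTheory.Limits MonoidalCategory CartesianMonoidalCategory MonObj AlgebraicGeometry
open TopologicalSpace

noncomputable section

namespace Groth.Agent.AbTI73

open Ampl73 (Pts pt)
open AbSquare57 (pb pb_comp pb_cls pb_cls_eq_one_iff)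

variable {K : Type u} [Field K] [IsAlgClosed K] {X T : Over (Spec (CommRingCat.of K))}
  [IsProper X.hom] [GeometricallyIntegral X.hom]

/-- the slice at a rational point of the parameters -/
def slice (X : Over (Spec (CommRingCat.of K))) (τ : Pts T) : X ⟶ X ⊗ T :=
  CartesianMonoidalCategory.lift (𝟙 X) (toUnit X ≫ τ)

omit [IsAlgClosed K] [IsProper X.hom] [GeometricallyIntegral X.hom] in
theorem slice_fst (τ : Pts T) : slice X τ ≫ fst X T = 𝟙 X := lift_fst _ _

omit [IsAlgClosed K] [IsProper X.hom] [GeometricallyIntegral X.hom] in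
theorem slice_snd (τ : Pts T) : slice X τ ≫ snd X T = toUnit X ≫ τ := lift_snd _ _

variable [IsSeparated T.hom] [LocallyOfFiniteType T.hom]

omit [IsProper X.hom] [GeometricallyIntegral X.hom] in
theorem fromSpecResidueField_pt' (τ : Pts T) :
    T.left.fromSpecResidueField (pt τ) = (T.left.fromSpecResidueField (pt τ) ≫ T.hom) ≫ τ.left := by
  have h : τ.left = pointOfClosedPoint T.hom (pt τ) (Ampl73.isClosed_pt τ) :=
    ext_of_apply_closedPoint_eq T.hom (Over.w τ) (pointOfClosedPoint_comp _ _ _)
      (pointOfClosedPoint_apply _ _ _ _).symm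
  rw [h, ← SpecMap_residueFieldIsoBase_inv T.hom (pt τ) (Ampl73.isClosed_pt τ), pointOfClosedPoint, ← Category.assoc,
    ← Spec.map_comp, Iso.hom_inv_id, Spec.map_id, Category.id_comp]

omit [IsProper X.hom] [GeometricallyIntegral X.hom] in
/-- The fibre over a rational point is the slice. -/
theorem exists_fibre_iso (τ : Pts T) : ∃ r : X.left ⟶ (snd X T).left.fiber (pt τ),
    IsIso r ∧ r ≫ (snd X T).left.fiberι (pt τ) = (slice X τ).left := by
  let π : (X ⊗ T).left ⟶ T.left := (snd X T).left
  let g := π.fiberι (pt τ)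
  let W : Over (Spec (CommRingCat.of K)) := Over.mk (g ≫ (X ⊗ T).hom)
  let w : W ⟶ X ⊗ T := Over.homMk g rfl
  have hsnd : w ≫ snd X T = toUnit W ≫ τ := by
    refine Over.OverMorphism.ext ?_
    show g ≫ π = (g ≫ (X ⊗ T).hom) ≫ τ.left
    have e : g ≫ π = π.fiberToSpecResidueField (pt τ) ≫ T.left.fromSpecResidueField (pt τ) :=
      Scheme.Hom.fiber_fac π (pt τ)
    rw [← Over.w (snd X T), ← Category.assoc g, Category.assoc (g ≫ π)]
    show g ≫ π = ((g ≫ π) ≫ T.hom) ≫ τ.left
    rw [e, fromSpecResidueField_pt' τ]
    simp only [Category.assoc]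
    rw [show τ.left ≫ T.hom ≫ τ.left = τ.left from by
      rw [← Category.assoc, Over.w τ]; exact Category.id_comp _]
  have hw : w = (w ≫ fst X T) ≫ slice X τ := by
    apply CartesianMonoidalCategory.hom_ext
    · rw [Category.assoc, slice_fst, Category.comp_id]
    · rw [Category.assoc, Category.assoc, slice_snd, hsnd, ← Category.assoc (w) _ _, ← Category.assoc (_ ≫ _)]
      exact congrArg (· ≫ τ) (toUnit_unique _ _)
  -- the slice factors through the fibre
  obtain ⟨r, hr⟩ : ∃ r : X.left ⟶ π.fiber (pt τ), r ≫ g = (slice X τ).left := by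
    let κ := residueFieldIsoBase T.hom (pt τ) (Ampl73.isClosed_pt τ)
    refine ⟨pullback.lift (slice X τ).left (X.hom ≫ Spec.map κ.hom) ?_, pullback.lift_fst _ _ _⟩
    rw [← Over.comp_left, slice_snd, Over.comp_left, Category.assoc]
    show X.hom ≫ τ.left = _
    refine congrArg (X.hom ≫ ·) ?_
    exact ext_of_apply_closedPoint_eq T.hom (Over.w τ) (pointOfClosedPoint_comp _ _ _)
      (pointOfClosedPoint_apply T.hom (pt τ) (Ampl73.isClosed_pt τ) _).symm
  refine ⟨r, ⟨⟨(w ≫ fst X T).left, ?_, ?_⟩⟩, hr⟩
  · show r ≫ (g ≫ (fst X T).left) = _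
    rw [reassoc_of% hr, ← Over.comp_left, slice_fst]
    rfl
  · have hg : Mono g := inferInstanceAs (Mono (pullback.fst π (T.left.fromSpecResidueField (pt τ))))
    refine hg.right_cancellation _ _ ?_
    rw [Category.assoc, hr, ← Over.comp_left, ← hw, Category.id_comp]
    rfl

omit [IsProper X.hom] [GeometricallyIntegral X.hom] in
/-- The inverse image to the fibre over a rational point is trivial exactly when the slice is. -/
theorem trivFib_pt_iff {L : (X ⊗ T).left.Modules} (hL : PicF.IsInvertible L) (τ : Pts T) :
    Nonempty ((Scheme.Modules.pullback ((snd X T).left.fiberι (pt τ))).obj L ≅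
        Coh.structureModule ((snd X T).left.fiber (pt τ))) ↔
      pb (slice X τ).left (PicGrp.cls L hL) = 1 := by
  rw [← pb_cls_eq_one_iff _ hL]
  obtain ⟨r, hi, hr⟩ := exists_fibre_iso (X := X) τ
  constructor
  · intro h
    rw [← hr, pb_comp, h, map_one]
  · intro h
    rw [← hr, pb_comp] at h
    have h2 := congrArg (pb (inv r)) h
    rwa [← pb_comp, IsIso.inv_hom_id, AbSquare57.pb_id, map_one] at h2

omit [IsAlgClosed K] [IsProper X.hom] [IsSeparated T.hom] [LocallyOfFiniteType T.hom] in
theorem hint : ∀ y, IsIntegral ((snd X T).left.fiber y) := fun y => by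
  have : GeometricallyIntegral (snd X T).left := inferInstanceAs (GeometricallyIntegral (pullback.snd X.hom T.hom))
  infer_instance

omit [IsAlgClosed K] [IsSeparated T.hom] [LocallyOfFiniteType T.hom] in
theorem hfld : ∀ y, IsField Γ((snd X T).left.fiber y, ⊤) := fun y => by
  have := hint (X := X) (T := T) y
  have : IsProper (snd X T).left := inferInstanceAs (IsProper (pullback.snd X.hom T.hom))
  have : IsProper ((snd X T).left.fiberToSpecResidueField y) :=
    MorphismProperty.of_isPullback (IsPullback.of_hasPullback (snd X T).left _) (inferInstance : IsProper (snd X T).left)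
  exact isField_of_universallyClosed (T.left.residueField y) ((snd X T).left.fiberToSpecResidueField y)

/-- The rational points over which a class is trivial are those of a closed set. -/
theorem exists_closed_trivial_locus (q : AbSquare57.Pic (X ⊗ T).left) :
    ∃ Z : Set T.left, IsClosed Z ∧ ∀ τ : Pts T, pt τ ∈ Z ↔ pb (slice X τ).left q = 1 := by
  obtain ⟨L, hL, rfl⟩ := PicGrp.exists_eq_cls q
  have : IsProper (snd X T).left := inferInstanceAs (IsProper (pullback.snd X.hom T.hom))
  have : Flat (snd X T).left := inferInstanceAs (Flat (pullback.snd X.hom T.hom))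
  have : IsLocallyNoetherian T.left := LocallyOfFiniteType.isLocallyNoetherian T.hom
  exact ⟨_, Cube7.isClosed_trivFib (snd X T).left hint hfld hL, fun τ => trivFib_pt_iff hL τ⟩

/-- Seesaw: a class which is trivial on all slices comes from the parameters. -/
theorem eq_pullback_of_slices [IsReduced T.left] (q : AbSquare57.Pic (X ⊗ T).left)
    (h : ∀ τ : Pts T, pb (slice X τ).left q = 1) : ∃ d, q = pb (snd X T).left d := by
  obtain ⟨L, hL, rfl⟩ := PicGrp.exists_eq_cls q
  let π : (X ⊗ T).left ⟶ T.left := (snd X T).left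
  have : IsProper π := inferInstanceAs (IsProper (pullback.snd X.hom T.hom))
  have : Flat π := inferInstanceAs (Flat (pullback.snd X.hom T.hom))
  have : GeometricallyIntegral π := inferInstanceAs (GeometricallyIntegral (pullback.snd X.hom T.hom))
  have : GeometricallyConnected π := FBase64.geometricallyConnected_of_geometricallyIrreducible π
  have : IsLocallyNoetherian T.left := LocallyOfFiniteType.isLocallyNoetherian T.hom
  have : IsLocallyNoetherian (X ⊗ T).left := LocallyOfFiniteType.isLocallyNoetherian π
  have : JacobsonSpace T.left := LocallyOfFiniteType.jacobsonSpace T.hom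
  have hclosed := Cube7.isClosed_trivFib π hint hfld hL
  have hall : ∀ y : T.left, Nonempty ((Scheme.Modules.pullback (π.fiberι y)).obj L ≅ Coh.structureModule (π.fiber y)) := by
    intro y
    by_contra hy
    obtain ⟨z, hz, hzc⟩ := nonempty_inter_closedPoints ⟨y, hy⟩ hclosed.isOpen_compl.isLocallyClosed
    obtain ⟨τ, rfl⟩ := Ampl73.exists_pt (A := T) z hzc
    exact hz ((trivFib_pt_iff hL τ).2 (h τ))
  obtain ⟨hd, hcounit⟩ := Groth.Agent.S14419.result π L hL hall
  refine ⟨PicGrp.cls _ hd, ?_⟩
  rw [pb_cls, PicGrp.cls_eq_cls_iff]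
  exact ⟨(asIso ((Scheme.Modules.pullbackPushforwardAdjunction π).counit.app L)).symm⟩

end Groth.Agent.AbTI73
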