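import Groth.Agent.EGA73.MorDetNorm
import Groth.Agent.EGA73.Invertible
import Groth.Agent.QC70.Hom
import Mathlib.RingTheory.Trace.Basic

/-!
The structure sheaf is a direct summand of its direct image along a finite flat morphism of invertible degree.
-/

set_option autoImplicit false
set_option backward.isDefEq.respectTransparency.types false
set_option linter.style.haveILetI false

universe u

open CategoryTheory CategoryTheory.Limits AlgebraicGeometry Opposite TopologicalSpace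

noncomputable section

namespace Groth.Agent.AbTI73

open EGA73 Var76.ZeroScheme QC70

variable {X Y : Scheme.{u}} (π : X ⟶ Y)

/-- The trace of the sections over `V`. -/
def trc (V : Y.Opens) : Γ(X, π ⁻¹ᵁ V) → Γ(Y, V) :=
  letI := (π.app V).hom.toAlgebra
  fun z => Algebra.trace Γ(Y, V) Γ(X, π ⁻¹ᵁ V) z

theorem trc_add (V : Y.Opens) (a b : Γ(X, π ⁻¹ᵁ V)) : trc π V (a + b) = trc π V a + trc π V b := by
  letI := (π.app V).hom.toAlgebra
  exact map_add (Algebra.trace Γ(Y, V) Γ(X, π ⁻¹ᵁ V)) a b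

theorem trc_mul (V : Y.Opens) (c : Γ(Y, V)) (a : Γ(X, π ⁻¹ᵁ V)) :
    trc π V (π.app V c * a) = c * trc π V a := by
  letI := (π.app V).hom.toAlgebra
  show Algebra.trace Γ(Y, V) Γ(X, π ⁻¹ᵁ V) (algebraMap Γ(Y, V) Γ(X, π ⁻¹ᵁ V) c * a) = _
  rw [← Algebra.smul_def, map_smul, smul_eq_mul]
  rfl

theorem trc_one {V : Y.Opens} {n : ℕ} {s : Fin n → Γ(X, π ⁻¹ᵁ V)} (hs : NatBasis π s) :
    trc π V 1 = n := by
  letI := (π.app V).hom.toAlgebra
  obtain ⟨b, -⟩ := hs.exists_basis π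
  show Algebra.trace Γ(Y, V) Γ(X, π ⁻¹ᵁ V) 1 = _
  rw [← map_one (algebraMap Γ(Y, V) Γ(X, π ⁻¹ᵁ V)), Algebra.trace_algebraMap_of_basis b]
  simp

theorem trc_res {V W : Y.Opens} {n : ℕ} {s : Fin n → Γ(X, π ⁻¹ᵁ V)} (hs : NatBasis π s)
    (h : W ≤ V) (z : Γ(X, π ⁻¹ᵁ V)) : fres h (trc π V z) = trc π W (fres (π.preimage_mono h) z) := by
  classical
  letI := (π.app V).hom.toAlgebra
  letI := (π.app W).hom.toAlgebra
  obtain ⟨b, hb⟩ := hs.exists_basis π
  obtain ⟨c, hc⟩ := (hs.res π h).exists_basis π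
  let r : Γ(Y, V) →+* Γ(Y, W) := (Y.presheaf.map (homOfLE h).op).hom
  let r' : Γ(X, π ⁻¹ᵁ V) →+* Γ(X, π ⁻¹ᵁ W) := (X.presheaf.map (homOfLE (π.preimage_mono h)).op).hom
  have hrepr : ∀ (x : Γ(X, π ⁻¹ᵁ V)) (i : Fin n), c.repr (r' x) i = r (b.repr x i) := by
    intro x i
    have hx : r' x = ∑ j, r (b.repr x j) • c j := by
      conv_lhs => rw [← b.sum_repr x]
      rw [map_sum]
      refine Finset.sum_congr rfl fun j _ => ?_
      rw [Algebra.smul_def, Algebra.smul_def, map_mul, hb, hc]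
      exact congrArg (· * _) (app_fres π h _).symm
    rw [hx, c.repr_sum_self]
  show r (Algebra.trace Γ(Y, V) Γ(X, π ⁻¹ᵁ V) z) = Algebra.trace Γ(Y, W) Γ(X, π ⁻¹ᵁ W) (r' z)
  rw [Algebra.trace_eq_matrix_trace b, Algebra.trace_eq_matrix_trace c, AddMonoidHom.map_trace]
  congr 1
  ext i j
  show r ((Algebra.leftMulMatrix b z) i j) = (Algebra.leftMulMatrix c (r' z)) i j
  rw [Algebra.leftMulMatrix_eq_repr_mul, Algebra.leftMulMatrix_eq_repr_mul, ← hrepr, map_mul]
  congr 2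
  rw [hb, hc]

/-- The trace over a chart, multiplied by a global function. -/
def trcHomOn (w : Γ(Y, ⊤)) {V : Y.Opens} (hV : IsChart π V) :
    HomOn ((Coh.push π).obj (Coh.structureModule X)) (Coh.structureModule Y) V where
  app W _ :=
    { toFun := fun s => fres (le_top (a := W)) w * trc π W s
      map_add' := fun a b =>
        (congrArg (fres (le_top (a := W)) w * ·)
          (trc_add π W (show Γ(X, π ⁻¹ᵁ W) from a) (show Γ(X, π ⁻¹ᵁ W) from b))).trans (mul_add _ _ _)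
      map_smul' := fun r a =>
        (congrArg (fres (le_top (a := W)) w * ·) (trc_mul π W r (show Γ(X, π ⁻¹ᵁ W) from a))).trans
          (mul_left_comm _ _ _) }
  app_res {W W'} hW h s := by
    obtain ⟨n, t, ht⟩ := hV
    show fres _ w * trc π W' (fres (π.preimage_mono h) (s : Γ(X, π ⁻¹ᵁ W))) =
      fres h (fres (le_top (a := W)) w * trc π W (s : Γ(X, π ⁻¹ᵁ W)))
    rw [← trc_res π (ht.res π hW) h, ← fres_fres (le_top (a := W)) h w]
    exact (map_mul (Y.presheaf.map (homOfLE h).op).hom _ _).symm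

theorem exists_trace [IsFinite π] [Flat π] [LocallyOfFinitePresentation π] (N : ℕ)
    (hN : ∀ y : Y, π.finrank y = N) (hu : IsUnit (N : Γ(Y, ⊤))) :
    ∃ (u : Coh.structureModule Y ⟶ (Coh.push π).obj (Coh.structureModule X))
      (r : (Coh.push π).obj (Coh.structureModule X) ⟶ Coh.structureModule Y), u ≫ r = 𝟙 _ := by
  obtain ⟨w, hw⟩ := hu.exists_left_inv
  choose V hV hVc using exists_isChart_of_isFinLocFree π (isFinLocFree_push π)
  have hc : HomOn.Compatible (fun y => trcHomOn π w (hVc y)) := fun _ _ _ _ _ _ => rfl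
  have hU : (⊤ : Y.Opens) ≤ ⨆ y, V y := fun y _ => Opens.mem_iSup.2 ⟨y, hV y⟩
  refine ⟨EGA73.unitHom _ (1 : Γ(X, π ⁻¹ᵁ ⊤)), (HomOn.glue hc hU).toHom, ?_⟩
  refine (SheafOfModules.unitHomEquiv (R := Y.ringCatSheaf) _).injective (Subtype.ext ?_)
  funext W
  induction W using Opposite.rec with
  | op W =>
  show ((HomOn.glue hc hU).toHom).app W ((EGA73.unitHom _ (1 : Γ(X, π ⁻¹ᵁ ⊤))).app W (1 : Γ(Y, W))) = (1 : Γ(Y, W))
  rw [EGA73.unitHom_app, one_smul, HomOn.toHom_app]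
  refine QC70.section_ext' (Coh.structureModule Y) (fun y => W ⊓ V y) (fun _ => inf_le_left)
    (by rw [← inf_iSup_eq]; exact le_inf le_rfl (le_top.trans hU)) _ _ fun y => ?_
  rw [← (HomOn.glue hc hU).app_res le_top inf_le_left, HomOn.glue_app hc hU le_top y inf_le_right]
  show fres (le_top (a := W ⊓ V y)) w *
    trc π (W ⊓ V y) (fres (π.preimage_mono (inf_le_left : W ⊓ V y ≤ W))
      (fres (π.preimage_mono (le_top (a := W))) (1 : Γ(X, π ⁻¹ᵁ ⊤)))) =
    fres (inf_le_left : W ⊓ V y ≤ W) (1 : Γ(Y, W))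
  rw [show fres (π.preimage_mono (le_top (a := W))) (1 : Γ(X, π ⁻¹ᵁ ⊤)) = 1 from map_one _,
    show fres (π.preimage_mono (inf_le_left : W ⊓ V y ≤ W)) (1 : Γ(X, π ⁻¹ᵁ W)) = 1 from map_one _,
    show fres (inf_le_left : W ⊓ V y ≤ W) (1 : Γ(Y, W)) = 1 from map_one _]
  rcases subsingleton_or (Y := Y) (V := W ⊓ V y) with hss | ⟨z, hz⟩
  · exact Subsingleton.elim _ _
  obtain ⟨n, s, hs⟩ := (hVc y).mono π (inf_le_right : W ⊓ V y ≤ V y)
  obtain ⟨U, hU', hzU, hUW⟩ := exists_isAffineOpen_mem_and_subset hz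
  have hn : n = N := ((finrank_eq_of_natBasis π hU' (hs.res π hUW) hzU).symm.trans (hN z))
  rw [trc_one π hs, hn, ← map_natCast (Y.presheaf.map (homOfLE (le_top (a := W ⊓ V y))).op).hom N]
  show fres _ w * fres _ (N : Γ(Y, ⊤)) = 1
  rw [show fres (le_top (a := W ⊓ V y)) w * fres (le_top (a := W ⊓ V y)) (N : Γ(Y, ⊤)) = fres _ (w * (N : Γ(Y, ⊤))) from (map_mul _ _ _).symm, hw]
  exact map_one _

end Groth.Agent.AbTI73
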